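import Groth.Agent.Lib.RedSmooth.Basic
import Groth.Agent.Lib.GrpSchField.SmoothRegular
import Groth.Agent.Lib.CMFree.Regular
import Groth.Agent.Lib.LocNoeth.Scheme
import Groth.Agent.Lib.LocNoeth.Space
import Mathlib.AlgebraicGeometry.Morphisms.FiniteType
import Mathlib.RingTheory.Spectrum.Prime.Jacobson

/-!
# Connected smooth schemes over a field are irreducible
-/

universe u

open CategoryTheory AlgebraicGeometry

namespace GrothLib.SecLocus

/-- A connected scheme smooth over a field is irreducible (no quasi-compactness is needed). -/
theorem irreducibleSpace_of_smooth_connected {X : Scheme.{u}} (k : Type u) [Field k]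
    (p : X ⟶ Spec (CommRingCat.of k)) [Smooth p] [ConnectedSpace X] : IrreducibleSpace X := by
  have : IsReduced X := RedSmooth.isReduced_of_smooth p
  have : IsLocallyNoetherian X := LocallyOfFiniteType.isLocallyNoetherian p
  have : JacobsonSpace ↥(Spec (CommRingCat.of k)) := inferInstanceAs (JacobsonSpace (PrimeSpectrum k))
  have : JacobsonSpace X := LocallyOfFiniteType.jacobsonSpace p
  have hdom : ∀ z : X, IsClosed ({z} : Set X) → IsDomain (X.presheaf.stalk z) := fun z hz => by
    haveI := GrpSchField.isRegularLocalRing_stalk_of_smooth p hz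
    exact CMFree.isDomain_of_isRegularLocalRing _
  have hdis : (irreducibleComponents (X : Type u)).PairwiseDisjoint id := by
    rw [LocNoeth.pairwiseDisjoint_iff_unique]
    intro x Z hZ W hW hxZ hxW
    obtain ⟨z, hz, hzc⟩ := nonempty_inter_closedPoints (Z := closure ({x} : Set X))
      ⟨x, subset_closure rfl⟩ isClosed_closure.isLocallyClosed
    haveI := hdom z hzc
    refine (LocNoeth.nilradical_isPrime_iff X z).1 ?_ Z hZ W hW
      (closure_minimal (Set.singleton_subset_iff.2 hxZ) (isClosed_of_mem_irreducibleComponents Z hZ) hz)
      (closure_minimal (Set.singleton_subset_iff.2 hxW) (isClosed_of_mem_irreducibleComponents W hW) hz)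
    rw [nilradical_eq_zero]
    exact Ideal.isPrime_bot
  have h := (((LocNoeth.isLocNoeth X).tfae).out 3 2).1 hdis
  obtain ⟨x⟩ := (inferInstance : Nonempty X)
  refine (irreducibleSpace_def _).2 ?_
  rw [Set.top_eq_univ, ← PreconnectedSpace.connectedComponent_eq_univ x]
  exact h x

/-- A connected affine scheme smooth over a field is the spectrum of a domain. -/
theorem isDomain_of_smooth_connected (k S : Type u) [Field k] [CommRing S] [Algebra k S]
    [Algebra.Smooth k S] [ConnectedSpace (PrimeSpectrum S)] : IsDomain S := by
  let p := Spec.map (CommRingCat.ofHom (algebraMap k S))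
  have : Smooth p := by
    rw [HasRingHomProperty.Spec_iff (P := @Smooth)]
    exact RingHom.smooth_algebraMap.mpr ‹_›
  have : ConnectedSpace ↥(Spec (CommRingCat.of S)) := inferInstanceAs (ConnectedSpace (PrimeSpectrum S))
  have hirr : IrreducibleSpace ↥(Spec (CommRingCat.of S)) := irreducibleSpace_of_smooth_connected k p
  have hred : IsReduced (Spec (CommRingCat.of S)) := RedSmooth.isReduced_of_smooth p
  have : IsIntegral (Spec (CommRingCat.of S)) := isIntegral_of_irreducibleSpace_of_isReduced _
  exact (affine_isIntegral_iff (CommRingCat.of S)).1 this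

end GrothLib.SecLocus
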