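import Mathlib
import Groth.Agent.Lib.SecLocus.Connected
import Groth.Agent.Lib.FibreFlat.UnivRegular
import Groth.Agent.Lib.FlatModel.Descent
import Groth.Agent.Lib.RedSmooth.Basic

/-!
# Elements of smooth algebras vanishing on fibrewise dense opens
-/

universe u

open TensorProduct

namespace GrothLib.SecLocus

variable {A B : Type u} [CommRing A] [CommRing B] [Algebra A B]

/-- In a smooth algebra an element not vanishing identically on an irreducible fibre is regular
on it. -/
theorem regular_on_fibre [Algebra.Smooth A B] (p : PrimeSpectrum A)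
    (hirr : IsPreirreducible (PrimeSpectrum.comap (algebraMap A B) ⁻¹' {p}))
    (g : B) (q : PrimeSpectrum B) (hq : PrimeSpectrum.comap (algebraMap A B) q = p)
    (hg : g ∉ q.asIdeal) (z : B ⊗[A] p.asIdeal.ResidueField) (hz : g • z = 0) : z = 0 := by
  let F := p.asIdeal.Fiber B
  have : _root_.IsReduced F := RedSmooth.isReduced_of_algebra_smooth p.asIdeal.ResidueField F
  let h := PrimeSpectrum.preimageHomeomorphFiber A B p
  have : IrreducibleSpace (PrimeSpectrum F) := by
    rw [irreducibleSpace_def, Set.top_eq_univ, ← Set.image_univ_of_surjective h.surjective]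
    have : PreirreducibleSpace ↥(PrimeSpectrum.comap (algebraMap A B) ⁻¹' {p}) :=
      Subtype.preirreducibleSpace hirr
    have hpre : IsIrreducible (Set.univ : Set ↥(PrimeSpectrum.comap (algebraMap A B) ⁻¹' {p})) :=
      ⟨⟨⟨q, hq⟩, trivial⟩, PreirreducibleSpace.isPreirreducible_univ⟩
    exact hpre.image h h.continuous.continuousOn
  have : IsDomain F := by
    have hp := PrimeSpectrum.irreducibleSpace_iff_isPrime_nilradical.1 ‹IrreducibleSpace (PrimeSpectrum F)›
    rw [nilradical_eq_zero] at hp
    exact IsDomain.of_bot_isPrime F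
  have hsmul : ∀ w : B ⊗[A] p.asIdeal.ResidueField, TensorProduct.comm A B _ (g • w) =
      ((1 : p.asIdeal.ResidueField) ⊗ₜ[A] g : F) * (show F from TensorProduct.comm A B _ w) := by
    intro w
    induction w using TensorProduct.induction_on with
    | zero => simp
    | add a b ha hb =>
      rw [smul_add, map_add, map_add, ha, hb]
      exact (mul_add _ _ _).symm
    | tmul b c =>
      rw [TensorProduct.smul_tmul', TensorProduct.comm_tmul, TensorProduct.comm_tmul, smul_eq_mul]
      show c ⊗ₜ[A] (g * b) = (1 ⊗ₜ[A] g) * (c ⊗ₜ[A] b)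
      rw [Algebra.TensorProduct.tmul_mul_tmul, one_mul]
  have hne : ((1 : p.asIdeal.ResidueField) ⊗ₜ[A] g : F) ≠ 0 := by
    intro h0
    let Q := PrimeSpectrum.preimageEquivFiber A B p ⟨q, hq⟩
    have hQ : q.asIdeal = Q.asIdeal.comap Algebra.TensorProduct.includeRight.toRingHom := by
      have := congrArg (fun x : ↥(PrimeSpectrum.comap (algebraMap A B) ⁻¹' {p}) => x.1.asIdeal)
        ((PrimeSpectrum.preimageEquivFiber A B p).symm_apply_apply ⟨q, hq⟩)
      exact this.symm
    exact hg (hQ.symm.le (show (1 : p.asIdeal.ResidueField) ⊗ₜ[A] g ∈ Q.asIdeal from h0 ▸ zero_mem _))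
  apply (TensorProduct.comm A B p.asIdeal.ResidueField).injective
  rw [map_zero]
  have := hsmul z
  rw [hz, map_zero] at this
  exact (mul_eq_zero.1 this.symm).resolve_left hne

/-- **An element of a smooth algebra with irreducible fibres vanishing on an open meeting all
fibres vanishes.** -/
theorem eq_zero_of_forall_fibre [Algebra.Smooth A B]
    (hirr : ∀ p : PrimeSpectrum A, IsPreirreducible (PrimeSpectrum.comap (algebraMap A B) ⁻¹' {p}))
    (x : B) (h : ∀ q : PrimeSpectrum B, ∃ (g : B) (q' : PrimeSpectrum B),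
      PrimeSpectrum.comap (algebraMap A B) q' = PrimeSpectrum.comap (algebraMap A B) q ∧
        g ∉ q'.asIdeal ∧ g * x = 0) : x = 0 := by
  by_contra hx
  have htop : (⊥ : Submodule B B).colon {x} ≠ ⊤ := by
    intro htop
    have h1 : (1 : B) ∈ (⊥ : Submodule B B).colon {x} := htop ▸ trivial
    rw [Submodule.mem_colon_singleton, one_smul, Submodule.mem_bot] at h1
    exact hx h1
  obtain ⟨𝔮, h𝔮, hle⟩ := Ideal.exists_le_maximal _ htop
  obtain ⟨g, q', hq', hg, hgx⟩ := h ⟨𝔮, h𝔮.isPrime⟩
  let p : PrimeSpectrum A := PrimeSpectrum.comap (algebraMap A B) ⟨𝔮, h𝔮.isPrime⟩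
  have := h𝔮.isPrime
  obtain ⟨t, ht, ht0⟩ := FibreFlat.univ_regular (A := A) (M := B) (K := p.asIdeal.ResidueField) 𝔮
    (FlatModel.flat_localizedModule _) (Ideal.ker_algebraMap_residueField p.asIdeal) g
    (fun z hz => ⟨1, Ideal.IsPrime.one_notMem ‹_›,
      by rw [one_smul]; exact regular_on_fibre p (hirr p) g q' hq' hg z hz⟩)
    A (x ⊗ₜ[A] (1 : A)) (by rw [TensorProduct.smul_tmul', smul_eq_mul, hgx, TensorProduct.zero_tmul])
  refine ht (hle (Submodule.mem_colon_singleton.2 ((Submodule.mem_bot _).2 ?_)))
  have := congrArg (TensorProduct.rid A B) ht0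
  simpa [TensorProduct.smul_tmul'] using this

/-- An element of a smooth algebra with irreducible fibres killed by an element which is `1` on a
section vanishes. -/
theorem eq_zero_of_mul_of_section [Algebra.Smooth A B]
    (hirr : ∀ p : PrimeSpectrum A, IsPreirreducible (PrimeSpectrum.comap (algebraMap A B) ⁻¹' {p}))
    (e : B →ₐ[A] A) (g x : B) (hg : e g = 1) (hgx : g * x = 0) : x = 0 := by
  refine eq_zero_of_forall_fibre hirr x fun q => ?_
  let p := PrimeSpectrum.comap (algebraMap A B) q
  refine ⟨g, PrimeSpectrum.comap e.toRingHom p, ?_, ?_, hgx⟩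
  · rw [← PrimeSpectrum.comap_comp_apply]
    simp only [AlgHom.toRingHom_eq_coe, AlgHom.comp_algebraMap, Algebra.algebraMap_self]
    rfl
  · intro h
    have h1 : e g ∈ p.asIdeal := h
    rw [hg] at h1
    exact Ideal.IsPrime.one_notMem p.isPrime h1

/-- Smooth algebras with connected geometric fibres have irreducible fibres. -/
theorem isPreirreducible_fibre_of_connected [Algebra.Smooth A B]
    (hconn : ∀ (K : Type u) [Field K] [IsAlgClosed K] [Algebra A K],
      ConnectedSpace (PrimeSpectrum (K ⊗[A] B))) (p : PrimeSpectrum A) :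
    IsPreirreducible (PrimeSpectrum.comap (algebraMap A B) ⁻¹' {p}) := by
  let κ := p.asIdeal.ResidueField
  let F := p.asIdeal.Fiber B
  let K := AlgebraicClosure κ
  have hK := hconn K
  let c := Algebra.TensorProduct.cancelBaseChange A κ K K B
  have hKF : ConnectedSpace (PrimeSpectrum (K ⊗[κ] F)) :=
    (PrimeSpectrum.homeomorphOfRingEquiv c.toRingEquiv).symm.surjective.connectedSpace
      (PrimeSpectrum.homeomorphOfRingEquiv c.toRingEquiv).symm.continuous
  let d := PrimeSpectrum.homeomorphOfRingEquiv (R := K ⊗[κ] F) (S := F ⊗[κ] K)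
    (Algebra.TensorProduct.comm κ K F).toRingEquiv
  have : ConnectedSpace (PrimeSpectrum (F ⊗[κ] K)) := d.surjective.connectedSpace d.continuous
  have hsurj := PrimeSpectrum.comap_surjective_of_faithfullyFlat (A := F) (B := F ⊗[κ] K)
  have : ConnectedSpace (PrimeSpectrum F) :=
    hsurj.connectedSpace (PrimeSpectrum.continuous_comap _)
  have : IsDomain F := isDomain_of_smooth_connected κ F
  let h := PrimeSpectrum.preimageHomeomorphFiber A B p
  have h1 : IsPreirreducible (Set.univ : Set (PrimeSpectrum F)) :=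
    (IrreducibleSpace.isIrreducible_univ _).isPreirreducible
  have h2 := h1.image h.symm h.symm.continuous.continuousOn
  rw [Set.image_univ_of_surjective h.symm.surjective] at h2
  have h3 := h2.image Subtype.val continuous_subtype_val.continuousOn
  rwa [Set.image_univ, Subtype.range_coe] at h3

end GrothLib.SecLocus
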