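import Mathlib
import Groth.Agent.Lib.EssFree.Basic

/-!
# Infinitesimal neighbourhoods of a section of a smooth algebra

They are projective modules, commute with base change, and their intersection consists of the
elements which vanish near the section.
-/

universe u

open TensorProduct

namespace GrothLib.SecLocus

section Projective

variable {R B : Type u} [CommRing R] [CommRing B] [Algebra R B]

/-- The truncated polynomial algebra is projective. -/
theorem projective_trunc (m n : ℕ) :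
    Module.Projective R (MvPolynomial (Fin m) R ⧸ MvPolynomial.idealOfVars (Fin m) R ^ n) := by
  classical
  let M := MvPolynomial.idealOfVars (Fin m) R
  let tr : MvPolynomial (Fin m) R →ₗ[R] MvPolynomial (Fin m) R :=
    (MvPolynomial.basisMonomials (Fin m) R).constr R fun d =>
      if d.degree < n then MvPolynomial.monomial d 1 else 0
  have htr : ∀ d r, tr (MvPolynomial.monomial d r) = if d.degree < n then MvPolynomial.monomial d r else 0 := by
    intro d r
    have : MvPolynomial.monomial d r = r • (MvPolynomial.basisMonomials (Fin m) R) d := by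
      simp [MvPolynomial.smul_monomial]
    rw [this, map_smul, Module.Basis.constr_basis]
    split_ifs <;> simp [MvPolynomial.smul_monomial]
  have hker : (M ^ n).restrictScalars R ≤ LinearMap.ker tr := by
    intro p hp
    rw [Submodule.restrictScalars_mem, MvPolynomial.mem_pow_idealOfVars_iff] at hp
    rw [LinearMap.mem_ker, MvPolynomial.as_sum p, map_sum]
    exact Finset.sum_eq_zero fun d hd => by rw [htr, if_neg (not_lt.2 (hp d hd))]
  let s : (MvPolynomial (Fin m) R ⧸ M ^ n) →ₗ[R] MvPolynomial (Fin m) R :=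
    ((M ^ n).restrictScalars R).liftQ tr hker ∘ₗ
      (Submodule.Quotient.restrictScalarsEquiv R (M ^ n)).symm.toLinearMap
  let q : MvPolynomial (Fin m) R →ₗ[R] (MvPolynomial (Fin m) R ⧸ M ^ n) :=
    (Ideal.Quotient.mkₐ R (M ^ n)).toLinearMap
  refine Module.Projective.of_split (M := MvPolynomial (Fin m) R) s q (LinearMap.ext fun z => ?_)
  obtain ⟨p, rfl⟩ := Ideal.Quotient.mk_surjective z
  show Ideal.Quotient.mk (M ^ n) (tr p) = Ideal.Quotient.mk (M ^ n) p
  induction p using MvPolynomial.induction_on' with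
  | monomial d r =>
    rw [htr]
    split_ifs with h
    · rfl
    · rw [map_zero]
      refine (Ideal.Quotient.eq_zero_iff_mem.2 ?_).symm
      rw [MvPolynomial.mem_pow_idealOfVars_iff]
      intro x hx
      rw [Finset.mem_singleton.1 (MvPolynomial.support_monomial_subset hx)]
      exact not_lt.1 h
  | add a b ha hb => rw [map_add, map_add, map_add, ha, hb]

/-- The infinitesimal neighbourhoods of a section of a formally smooth algebra of finite type are
projective. -/
theorem projective_quot_pow [Algebra.FormallySmooth R B] [Algebra.FiniteType R B] (e : B →ₐ[R] R)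
    (n : ℕ) : Module.Projective R (B ⧸ RingHom.ker e ^ n) := by
  classical
  obtain ⟨m, π, hπ⟩ := Algebra.FiniteType.iff_quotient_mvPolynomial''.1 ‹Algebra.FiniteType R B›
  let M := MvPolynomial.idealOfVars (Fin m) R
  let φ : MvPolynomial (Fin m) R →ₐ[R] B :=
    MvPolynomial.aeval fun i => π (MvPolynomial.X i) - algebraMap R B (e (π (MvPolynomial.X i)))
  have hφ : Function.Surjective φ := by
    let t : MvPolynomial (Fin m) R →ₐ[R] MvPolynomial (Fin m) R :=
      MvPolynomial.aeval fun i => MvPolynomial.X i + MvPolynomial.C (e (π (MvPolynomial.X i)))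
    have h : φ.comp t = π := MvPolynomial.algHom_ext fun i => by
      simp [φ, t, ← MvPolynomial.algebraMap_eq]
    exact fun b => (hπ b).elim fun p hp => ⟨t p, by rw [← AlgHom.comp_apply, h, hp]⟩
  have heφ : ∀ p, e (φ p) = MvPolynomial.constantCoeff p := fun p => by
    have : e.comp φ = MvPolynomial.aeval (fun _ => (0 : R)) :=
      MvPolynomial.algHom_ext fun i => by simp [φ]
    rw [← AlgHom.comp_apply, this]
    simp [MvPolynomial.aeval_zero']
  have hmem : ∀ p, φ p ∈ RingHom.ker e ↔ p ∈ M := fun p => by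
    rw [RingHom.mem_ker, heφ, ← pow_one M, MvPolynomial.mem_pow_idealOfVars_iff']
    constructor
    · intro h x hx
      rw [(Finsupp.degree_eq_zero_iff x).1 (Nat.lt_one_iff.1 hx)]
      exact h
    · intro h
      exact h 0 (by simp)
  have hle : M ^ n ≤ (RingHom.ker e ^ n).comap φ :=
    Ideal.map_le_iff_le_comap.1 (by
      rw [Ideal.map_pow]
      exact Ideal.pow_right_mono ((Ideal.map_le_iff_le_comap (f := φ) (K := RingHom.ker e)).2
        fun p hp => (hmem p).2 hp) n)
  let g := Ideal.quotientMapₐ (RingHom.ker e ^ n) φ hle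
  have hg : Function.Surjective g := fun z => by
    obtain ⟨b, rfl⟩ := Ideal.Quotient.mk_surjective z
    obtain ⟨p, rfl⟩ := hφ b
    exact ⟨Ideal.Quotient.mk _ p, rfl⟩
  have hMn : (M.map (Ideal.Quotient.mk (M ^ n))) ^ n = ⊥ := by
    rw [← Ideal.map_pow, Ideal.map_quotient_self]
  -- membership in the augmentation ideal is detected by the neighbourhoods
  have hker : ∀ p y, y ∈ RingHom.ker e → g (Ideal.Quotient.mk _ p) = Ideal.Quotient.mk _ y →
      Ideal.Quotient.mk (M ^ n) p ∈ M.map (Ideal.Quotient.mk (M ^ n)) := by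
    intro p y hy h
    rcases Nat.eq_zero_or_pos n with rfl | hn
    · have : Subsingleton (MvPolynomial (Fin m) R ⧸ M ^ 0) :=
        Ideal.Quotient.subsingleton_iff.2 (by simp)
      rw [Subsingleton.elim (Ideal.Quotient.mk _ p) 0]
      exact zero_mem _
    refine Ideal.mem_map_of_mem _ ((hmem p).1 ?_)
    have h' : φ p - y ∈ RingHom.ker e ^ n := Ideal.Quotient.eq.1 h
    simpa using add_mem (Ideal.pow_le_self hn.ne' h') hy
  have hnil : IsNilpotent (RingHom.ker g.toRingHom) := by
    refine ⟨n, eq_bot_iff.2 (le_of_le_of_eq (Ideal.pow_right_mono (fun z hz => ?_) n) hMn)⟩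
    obtain ⟨p, rfl⟩ := Ideal.Quotient.mk_surjective z
    exact hker p 0 (zero_mem _) (by simpa using hz)
  let ψ := Algebra.FormallySmooth.liftOfSurjective (Ideal.Quotient.mkₐ R (RingHom.ker e ^ n)) g hg hnil
  have hgψ : ∀ b, g (ψ b) = Ideal.Quotient.mk _ b :=
    Algebra.FormallySmooth.liftOfSurjective_apply _ g hg hnil
  have hψ : ∀ x ∈ RingHom.ker e ^ n, ψ x = 0 := by
    intro x hx
    have h1 : (RingHom.ker e).map ψ ≤ M.map (Ideal.Quotient.mk (M ^ n)) := by
      refine Ideal.map_le_iff_le_comap.2 fun y hy => ?_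
      obtain ⟨p, hp⟩ := Ideal.Quotient.mk_surjective (ψ y)
      rw [Ideal.mem_comap, ← hp]
      exact hker p y hy (by rw [hp, hgψ])
    have h2 : ψ x ∈ (RingHom.ker e ^ n).map ψ := Ideal.mem_map_of_mem _ hx
    rw [Ideal.map_pow] at h2
    have := Ideal.pow_right_mono h1 n h2
    rwa [hMn] at this
  let ψ' := Ideal.Quotient.liftₐ (RingHom.ker e ^ n) ψ hψ
  have := projective_trunc (R := R) m n
  refine Module.Projective.of_split ψ'.toLinearMap g.toLinearMap (LinearMap.ext fun z => ?_)
  obtain ⟨b, rfl⟩ := Ideal.Quotient.mk_surjective z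
  exact hgψ b

end Projective

section BaseChange

variable {A R B₀ B : Type u} [CommRing A] [CommRing R] [CommRing B₀] [CommRing B] [Algebra A R]
  [Algebra A B₀] [Algebra R B] [Algebra A B] [IsScalarTower A R B]
  (φ : B₀ →ₐ[A] B) (e₀ : B₀ →ₐ[A] A) (e : B →ₐ[R] R)

variable {φ e₀ e}

/-- The kernel of the base change of a retraction is generated by the kernel. -/
theorem ker_eq_map (hφ : IsBaseChange R φ.toLinearMap) (he : ∀ b, e (φ b) = algebraMap A R (e₀ b)) :
    RingHom.ker e = (RingHom.ker e₀).map φ := by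
  refine le_antisymm (fun y hy => ?_) (Ideal.map_le_iff_le_comap.2 fun b hb => ?_)
  · have key : ∀ z : B, z - algebraMap R B (e z) ∈ (RingHom.ker e₀).map φ := by
      intro z
      induction z using hφ.inductionOn with
      | zero => simp
      | tmul b =>
        have hb : b - algebraMap A B₀ (e₀ b) ∈ RingHom.ker e₀ := by simp
        have h := Ideal.mem_map_of_mem φ hb
        rw [map_sub, AlgHom.commutes, IsScalarTower.algebraMap_apply A R B] at h
        show φ b - algebraMap R B (e (φ b)) ∈ _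
        rwa [he]
      | smul r z hz =>
        rw [Algebra.smul_def, map_mul, e.commutes, Algebra.algebraMap_self, RingHom.id_apply, map_mul,
          ← mul_sub]
        exact Ideal.mul_mem_left _ _ hz
      | add z w hz hw =>
        rw [map_add, map_add, add_sub_add_comm]
        exact add_mem hz hw
    have := key y
    rwa [show e y = 0 from hy, map_zero, sub_zero] at this
  · show e (φ b) = 0
    rw [he, show e₀ b = 0 from hb, map_zero]

theorem pow_le_comap (hφ : IsBaseChange R φ.toLinearMap) (he : ∀ b, e (φ b) = algebraMap A R (e₀ b)) (n : ℕ) :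
    RingHom.ker e₀ ^ n ≤ (RingHom.ker e ^ n).comap φ := by
  rw [← Ideal.map_le_iff_le_comap, Ideal.map_pow, ker_eq_map hφ he]

/-- The map of infinitesimal neighbourhoods. -/
noncomputable def nbhdMap (hφ : IsBaseChange R φ.toLinearMap)
    (he : ∀ b, e (φ b) = algebraMap A R (e₀ b)) (n : ℕ) :
    (B₀ ⧸ RingHom.ker e₀ ^ n) →ₗ[A] (B ⧸ RingHom.ker e ^ n) :=
  (Ideal.quotientMapₐ _ φ (pow_le_comap hφ he n)).toLinearMap

@[simp] theorem nbhdMap_mk (hφ : IsBaseChange R φ.toLinearMap)
    (he : ∀ b, e (φ b) = algebraMap A R (e₀ b)) (n : ℕ) (b : B₀) :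
    nbhdMap hφ he n (Ideal.Quotient.mk _ b) = Ideal.Quotient.mk _ (φ b) := rfl

/-- Infinitesimal neighbourhoods of a section commute with base change. -/
theorem isBaseChange_nbhdMap (hφ : IsBaseChange R φ.toLinearMap)
    (he : ∀ b, e (φ b) = algebraMap A R (e₀ b)) (n : ℕ) : IsBaseChange R (nbhdMap hφ he n) := by
  let Φ : R ⊗[A] B₀ ≃ₐ[R] B := AlgEquiv.ofBijective
    (Algebra.TensorProduct.lift (Algebra.ofId R B) φ fun _ _ => Commute.all _ _) (by
      convert hφ.equiv.bijective using 1
      funext x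
      induction x with
      | zero => simp
      | add a b ha hb => simp only [map_add, ha, hb]
      | tmul r b => simp [IsBaseChange.equiv_tmul, Algebra.smul_def])
  have hcomp : ((Φ : R ⊗[A] B₀ →+* B).comp
      ((Algebra.TensorProduct.includeRight : B₀ →ₐ[A] R ⊗[A] B₀) : B₀ →+* R ⊗[A] B₀)) = (φ : B₀ →+* B) := by
    ext b
    simp [Φ]
  have hI : RingHom.ker e ^ n =
      ((RingHom.ker e₀ ^ n).map (Algebra.TensorProduct.includeRight : B₀ →ₐ[A] R ⊗[A] B₀)).map
        (Φ : R ⊗[A] B₀ →+* B) := by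
    rw [ker_eq_map hφ he, ← Ideal.map_pow]
    refine Eq.trans ?_ (Ideal.map_map _ _).symm
    exact congrArg (fun f : B₀ →+* B => (RingHom.ker e₀ ^ n).map f) hcomp.symm
  let E := (Algebra.TensorProduct.tensorQuotientEquiv R B₀ R (RingHom.ker e₀ ^ n)).trans
    (Ideal.quotientEquivAlg _ _ Φ hI)
  refine IsBaseChange.of_equiv E.toLinearEquiv fun z => ?_
  obtain ⟨b, rfl⟩ := Ideal.Quotient.mk_surjective z
  show Ideal.Quotient.mk _ (Φ (1 ⊗ₜ b)) = _
  simp [Φ]

/-- Vanishing of a tensor after a base change is read before the base change. -/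
theorem one_tmul_eq_zero_iff {M₀ M : Type u} [AddCommGroup M₀] [Module A M₀] [AddCommGroup M]
    [Module A M] [Module R M] [IsScalarTower A R M] {β : M₀ →ₗ[A] M} (hβ : IsBaseChange R β)
    (R' : Type u) [CommRing R'] [Algebra R R'] [Algebra A R'] [IsScalarTower A R R'] (m₀ : M₀) :
    (1 : R') ⊗ₜ[R] β m₀ = 0 ↔ (1 : R') ⊗ₜ[A] m₀ = 0 := by
  have h := hβ.comp (TensorProduct.isBaseChange R M R')
  rw [← h.equiv.map_eq_zero_iff (x := (1 : R') ⊗ₜ[A] m₀), IsBaseChange.equiv_tmul, one_smul]
  rfl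

end BaseChange

section Model

variable {R B : Type u} [CommRing R] [CommRing B] [Algebra R B]

/-- A smooth algebra with a section and finitely many elements descends to a finitely generated
subring. -/
theorem exists_model [Algebra.Smooth R B] (e : B →ₐ[R] R) (s : Finset B) :
    ∃ (A : Subalgebra ℤ R) (B₀ : Type u) (_ : CommRing B₀) (_ : Algebra A B₀)
      (φ : B₀ →ₐ[A] B) (e₀ : B₀ →ₐ[A] A), A.FG ∧ Algebra.Smooth A B₀ ∧
      IsBaseChange R φ.toLinearMap ∧ (∀ b, e (φ b) = algebraMap A R (e₀ b)) ∧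
      (s : Set B) ⊆ Set.range φ := by
  classical
  obtain ⟨A₀, B₀, _, _, hA₀, hsm, ⟨Ψ⟩⟩ := Algebra.Smooth.exists_subalgebra_fg ℤ R B
  obtain ⟨G, hG⟩ := (inferInstance : Algebra.FiniteType A₀ B₀).out
  have hrep : ∀ x : B, ∃ S : Finset (R × B₀), x = ∑ i ∈ S, Ψ.symm (i.1 ⊗ₜ i.2) := fun x => by
    obtain ⟨S, hS⟩ := TensorProduct.exists_finset (Ψ x)
    exact ⟨S, by rw [← map_sum, ← hS, Ψ.symm_apply_apply]⟩
  choose S hS using hrep
  let V : Finset R := (G.image fun g => e (Ψ.symm (1 ⊗ₜ g))) ∪ s.biUnion fun x => (S x).image Prod.fst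
  let A : Subalgebra ℤ R := A₀ ⊔ Algebra.adjoin ℤ (V : Set R)
  have hA : A.FG := hA₀.sup ⟨V, rfl⟩
  letI : Algebra A₀ A := (Subalgebra.inclusion (le_sup_left : A₀ ≤ A)).toRingHom.toAlgebra
  haveI : IsScalarTower A₀ A R := IsScalarTower.of_algebraMap_eq fun _ => rfl
  haveI : IsScalarTower A₀ A B := IsScalarTower.of_algebraMap_eq fun _ => rfl
  let φ₀ : B₀ →ₐ[A₀] B := (Ψ.symm.toAlgHom.restrictScalars A₀).comp Algebra.TensorProduct.includeRight
  have hφ₀ : ∀ b, φ₀ b = Ψ.symm (1 ⊗ₜ b) := fun _ => rfl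
  have hbc₀ : IsBaseChange R φ₀.toLinearMap := IsBaseChange.of_equiv Ψ.symm.toLinearEquiv fun _ => rfl
  let φ : (A ⊗[A₀] B₀) →ₐ[A] B :=
    Algebra.TensorProduct.lift (Algebra.ofId A B) φ₀ fun _ _ => Commute.all _ _
  have hφ : ∀ a b, φ (a ⊗ₜ b) = (a : R) • φ₀ b := fun a b => by
    rw [Algebra.smul_def]
    rfl
  have hcomp : (φ.toLinearMap.restrictScalars A₀) ∘ₗ (TensorProduct.mk A₀ A B₀ 1) = φ₀.toLinearMap :=
    LinearMap.ext fun b => by
      show φ (1 ⊗ₜ b) = φ₀ b
      rw [hφ, OneMemClass.coe_one, one_smul]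
  have hbc : IsBaseChange R φ.toLinearMap :=
    IsBaseChange.of_comp (R := A₀) (S := A) (T := R) (M := B₀) (N := A ⊗[A₀] B₀) (O := B)
      (f := TensorProduct.mk A₀ A B₀ 1) (TensorProduct.isBaseChange A₀ B₀ A) (hcomp ▸ hbc₀)
  have hmem : ∀ b, e (φ b) ∈ A := by
    intro b
    induction b with
    | zero => simp [zero_mem]
    | add a b ha hb => rw [map_add, map_add]; exact add_mem ha hb
    | tmul a b =>
      rw [hφ, map_smul, smul_eq_mul]
      refine mul_mem a.2 ?_
      have hb : b ∈ Algebra.adjoin A₀ (G : Set B₀) := hG ▸ Algebra.mem_top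
      induction hb using Algebra.adjoin_induction with
      | mem g hg =>
        exact le_sup_right (a := A₀) (Algebra.subset_adjoin (Finset.mem_union_left _
          (Finset.mem_image_of_mem _ hg)))
      | algebraMap c =>
        rw [AlgHom.commutes, IsScalarTower.algebraMap_apply A₀ R B, AlgHom.commutes]
        exact le_sup_left (b := Algebra.adjoin ℤ (V : Set R)) c.2
      | add a b _ _ ha hb => rw [map_add, map_add]; exact add_mem ha hb
      | mul a b _ _ ha hb => rw [map_mul, map_mul]; exact mul_mem ha hb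
  let e₀ : (A ⊗[A₀] B₀) →ₐ[A] A :=
    { toFun := fun b => ⟨e (φ b), hmem b⟩
      map_one' := Subtype.ext (by simp)
      map_mul' := fun a b => Subtype.ext (by simp)
      map_zero' := Subtype.ext (by simp)
      map_add' := fun a b => Subtype.ext (by simp)
      commutes' := fun a => Subtype.ext (by
        show e (φ (algebraMap A _ a)) = _
        rw [AlgHom.commutes, IsScalarTower.algebraMap_apply A R B, AlgHom.commutes]
        rfl) }
  refine ⟨A, A ⊗[A₀] B₀, inferInstance, inferInstance, φ, e₀, hA, inferInstance, hbc,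
    fun b => rfl, fun x hx => ?_⟩
  rw [hS x]
  refine ⟨∑ i ∈ (S x).attach, (⟨i.1.1, le_sup_right (a := A₀) (Algebra.subset_adjoin
    (Finset.mem_union_right _ (Finset.mem_biUnion.2 ⟨x, hx, Finset.mem_image_of_mem _ i.2⟩)))⟩ : A) ⊗ₜ i.1.2, ?_⟩
  rw [map_sum]
  refine Eq.trans (Finset.sum_congr rfl fun i _ => ?_) (Finset.sum_attach _ fun i : R × B₀ => Ψ.symm (i.1 ⊗ₜ i.2))
  rw [hφ, hφ₀, ← map_smul, TensorProduct.smul_tmul', smul_eq_mul, mul_one]

theorem isNoetherianRing_of_fg {A : Subalgebra ℤ R} (hA : A.FG) : IsNoetherianRing A :=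
  haveI : Algebra.FiniteType ℤ A := (Subalgebra.fg_iff_finiteType A).mp hA
  Algebra.FiniteType.isNoetherianRing ℤ A

/-- An element in every power of the ideal of a section of a smooth algebra is killed by an element
which is `1` on the section. -/
theorem exists_mul_eq_zero_of_mem_pow [Algebra.Smooth R B] (e : B →ₐ[R] R) (x : B)
    (hx : ∀ n, x ∈ RingHom.ker e ^ n) : ∃ g : B, e g = 1 ∧ g * x = 0 := by
  classical
  obtain ⟨A, B₀, _, _, φ, e₀, hA, _, hbc, he, hs⟩ := exists_model e {x}
  obtain ⟨x₀, rfl⟩ := hs (Finset.mem_coe.2 (Finset.mem_singleton_self x))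
  have := isNoetherianRing_of_fg hA
  have : IsNoetherianRing B₀ := Algebra.FiniteType.isNoetherianRing A B₀
  have hinj : ∀ n, Function.Injective (nbhdMap hbc he n) := fun n => by
    have := projective_quot_pow (R := A) e₀ n
    intro a b hab
    have hi : Function.Injective ((Algebra.linearMap A R).rTensor (B₀ ⧸ RingHom.ker e₀ ^ n)) :=
      Module.Flat.rTensor_preserves_injective_linearMap _ Subtype.val_injective
    apply (TensorProduct.lid A (B₀ ⧸ RingHom.ker e₀ ^ n)).symm.injective
    apply hi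
    apply (isBaseChange_nbhdMap hbc he n).equiv.injective
    simpa [IsBaseChange.equiv_tmul] using hab
  have hx₀ : x₀ ∈ (⨅ n : ℕ, RingHom.ker e₀ ^ n • ⊤ : Submodule B₀ B₀) := by
    rw [Submodule.mem_iInf]
    intro n
    rw [smul_eq_mul, Ideal.mul_top, ← Ideal.Quotient.eq_zero_iff_mem]
    apply hinj n
    rw [map_zero, nbhdMap_mk, Ideal.Quotient.eq_zero_iff_mem]
    exact hx n
  obtain ⟨r, hr⟩ := (Ideal.mem_iInf_smul_pow_eq_bot_iff _ x₀).1 hx₀
  refine ⟨φ (1 - r), ?_, ?_⟩
  · rw [he, map_sub, map_one, show e₀ r = 0 from r.2, sub_zero, map_one]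
  · rw [← map_mul, sub_mul, one_mul, ← smul_eq_mul, hr, sub_self, map_zero]

/-- **Vanishing on some infinitesimal neighbourhood implies vanishing on all.** -/
theorem exists_stable [Algebra.Smooth R B] (e : B →ₐ[R] R) (s : Finset B) :
    ∃ n : ℕ, ∀ (R' : Type u) [CommRing R'] [Algebra R R'],
      (∀ x ∈ s, (1 : R') ⊗ₜ[R] Ideal.Quotient.mk (RingHom.ker e ^ n) x = 0) →
        ∀ m, ∀ x ∈ s, (1 : R') ⊗ₜ[R] Ideal.Quotient.mk (RingHom.ker e ^ m) x = 0 := by
  classical
  obtain ⟨A, B₀, _, _, φ, e₀, hA, _, hbc, he, hs⟩ := exists_model e s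
  have := isNoetherianRing_of_fg hA
  have : ∀ m, Module.Projective A (B₀ ⧸ RingHom.ker e₀ ^ m) := projective_quot_pow e₀
  choose I hI using fun m => EssFree.exists_coeff_ideal (A := A) (M := B₀ ⧸ RingHom.ker e₀ ^ m)
    (Ideal.Quotient.mk _ '' (φ ⁻¹' (s : Set B)))
  have hmono : Monotone I := by
    intro i j hij
    have hj := (hI j (A ⧸ I j)).2 (by rw [Ideal.Quotient.algebraMap_eq, Ideal.mk_ker])
    have := (hI i (A ⧸ I j)).1 (by
      rintro _ ⟨b, hb, rfl⟩
      have := congrArg ((Ideal.Quotient.factorₐ A (Ideal.pow_le_pow_right hij)).toLinearMap.rTensor (A ⧸ I j))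
        (hj _ ⟨b, hb, rfl⟩)
      simpa using this)
    rwa [Ideal.Quotient.algebraMap_eq, Ideal.mk_ker] at this
  obtain ⟨n, hn⟩ := monotone_stabilizes_iff_noetherian.mpr (inferInstanceAs (IsNoetherian A A)) ⟨I, hmono⟩
  refine ⟨n, fun R' _ _ hR' m x hx => ?_⟩
  haveI : IsScalarTower A R R' := IsScalarTower.of_algebraMap_eq fun _ => rfl
  have key : ∀ k (b : B₀), (1 : R') ⊗ₜ[R] Ideal.Quotient.mk (RingHom.ker e ^ k) (φ b) = 0 ↔
      Ideal.Quotient.mk (RingHom.ker e₀ ^ k) b ⊗ₜ[A] (1 : R') = 0 := fun k b => by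
    rw [← nbhdMap_mk hbc he, one_tmul_eq_zero_iff (isBaseChange_nbhdMap hbc he k),
      ← TensorProduct.comm_tmul, LinearEquiv.map_eq_zero_iff]
  have hn' : I n ≤ RingHom.ker (algebraMap A R') := (hI n R').1 (by
    rintro _ ⟨b, hb, rfl⟩
    exact (key n b).1 (hR' _ hb))
  have hIm : I m ≤ I n := by
    rcases le_total m n with h | h
    · exact hmono h
    · exact (hn m h).ge
  obtain ⟨b, rfl⟩ := hs hx
  exact (key m b).2 ((hI m R').2 (hIm.trans hn') _ ⟨b, hx, rfl⟩)

end Model

end GrothLib.SecLocus
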