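import Mathlib
import Groth.Agent.Lib.SecLocus.Nbhd
import Groth.Agent.Lib.SecLocus.Dense
import Groth.Agent.Lib.IdealDescFpqc.Algebra

/-!
# The locus where a closed subscheme contains a smooth algebra, over the algebra itself

For a smooth `A`-algebra `B`, an ideal `J` of `B` and an `A`-algebra `R` receiving a map from `B`,
the base change of `B` to `R` has a tautological section; the condition that `J` vanishes in
`R ⊗ B` is represented by an ideal of `B`.
-/

universe u v

open TensorProduct

namespace GrothLib.SecLocus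

/-- The coefficient ideal of a finite subset of a projective module is finitely generated. -/
theorem exists_coeff_ideal_fg {A : Type u} {M : Type v} [CommRing A] [AddCommGroup M] [Module A M]
    [Module.Projective A M] (J : Finset M) :
    ∃ I : Ideal A, I.FG ∧ ∀ (R : Type u) [CommRing R] [Algebra A R],
      (∀ b ∈ J, b ⊗ₜ[A] (1 : R) = 0) ↔ I ≤ RingHom.ker (algebraMap A R) := by
  classical
  obtain ⟨s, hs⟩ := Module.projective_def'.mp ‹Module.Projective A M›
  let C : Finset A := J.biUnion fun b => (s b).support.image (s b)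
  refine ⟨Ideal.span (C : Set A), ⟨C, rfl⟩, fun R _ _ => ?_⟩
  rw [Ideal.span_le]
  constructor
  · intro h c hc
    obtain ⟨b, hb, hc⟩ := Finset.mem_biUnion.1 hc
    obtain ⟨m, -, rfl⟩ := Finset.mem_image.1 hc
    have h1 : TensorProduct.finsuppScalarLeft A R M (s.rTensor R (b ⊗ₜ[A] 1)) = 0 := by
      rw [h b hb, map_zero, map_zero]
    have h2 := congrArg (fun f : M →₀ R => f m) h1
    simpa [Algebra.algebraMap_eq_smul_one] using h2
  · intro h b hb
    have h1 : s.rTensor R (b ⊗ₜ[A] (1 : R)) = 0 := by
      apply (TensorProduct.finsuppScalarLeft A R M).injective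
      ext m
      by_cases hm : m ∈ (s b).support
      · have := h (Finset.mem_coe.2 (Finset.mem_biUnion.2 ⟨b, hb, Finset.mem_image_of_mem _ hm⟩))
        simpa [Algebra.algebraMap_eq_smul_one] using this
      · simp [Finsupp.notMem_support_iff.1 hm]
    have h2 : ((Finsupp.linearCombination A id).rTensor R) (s.rTensor R (b ⊗ₜ[A] (1 : R))) =
        b ⊗ₜ[A] (1 : R) := by
      rw [← LinearMap.comp_apply, ← LinearMap.rTensor_comp, hs, LinearMap.rTensor_id,
        LinearMap.id_apply]
    rw [← h2, h1, map_zero]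

variable {A B : Type u} [CommRing A] [CommRing B] [Algebra A B]

/-- An element of a smooth algebra with irreducible fibres lying in all powers of the ideal of a
section vanishes. -/
theorem eq_zero_of_mem_pow [Algebra.Smooth A B]
    (hirr : ∀ p : PrimeSpectrum A, IsPreirreducible (PrimeSpectrum.comap (algebraMap A B) ⁻¹' {p}))
    (e : B →ₐ[A] A) (x : B) (hx : ∀ n, x ∈ RingHom.ker e ^ n) : x = 0 := by
  obtain ⟨g, hg, hgx⟩ := exists_mul_eq_zero_of_mem_pow e x hx
  exact eq_zero_of_mul_of_section hirr e g x hg hgx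

/-- **The universal locus over the algebra.** -/
theorem exists_universal [Algebra.Smooth A B]
    (hirr : ∀ (R : Type u) [CommRing R] [Algebra A R] (p : PrimeSpectrum R),
      IsPreirreducible (PrimeSpectrum.comap (algebraMap R (R ⊗[A] B)) ⁻¹' {p})) (J : Ideal B) :
    ∃ L : Ideal B, (J.FG → L.FG) ∧ ∀ (R : Type u) [CommRing R] [Algebra A R] (σ : B →ₐ[A] R),
      L ≤ RingHom.ker σ ↔ ∀ b ∈ J, (1 : R) ⊗ₜ[A] b = (0 : R ⊗[A] B) := by
  classical
  let e : B ⊗[A] B →ₐ[B] B :=
    Algebra.TensorProduct.lift (AlgHom.id B B) (AlgHom.id A B) fun _ _ => Commute.all _ _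
  have he_tmul : ∀ b c, e (b ⊗ₜ c) = b * c := fun b c => by simp [e]
  have : ∀ n, Module.Projective B ((B ⊗[A] B) ⧸ RingHom.ker e ^ n) := projective_quot_pow e
  choose I hI using fun n => EssFree.exists_coeff_ideal (A := B)
    (M := (B ⊗[A] B) ⧸ RingHom.ker e ^ n)
    ((fun b => Ideal.Quotient.mk _ ((1 : B) ⊗ₜ[A] b)) '' (J : Set B))
  refine ⟨⨆ n, I n, fun hJ => ?_, fun R _ _ σ => ?_⟩
  · obtain ⟨s, hs⟩ := hJ
    let s' : Finset (B ⊗[A] B) := s.image fun b => (1 : B) ⊗ₜ[A] b
    obtain ⟨n, hn⟩ := exists_stable e s'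
    obtain ⟨K, hK, hKn⟩ := exists_coeff_ideal_fg (A := B) (s'.image (Ideal.Quotient.mk (RingHom.ker e ^ n)))
    suffices ⨆ m, I m = K by rwa [this]
    have hgen : ∀ (R' : Type u) [CommRing R'] [Algebra B R'] (m : ℕ),
        (∀ x ∈ s', Ideal.Quotient.mk (RingHom.ker e ^ m) x ⊗ₜ[B] (1 : R') = 0) ↔
          I m ≤ RingHom.ker (algebraMap B R') := by
      intro R' _ _ m
      rw [← hI m R']
      constructor
      · intro h
        have hspan : ∀ b ∈ Submodule.span B (s : Set B),
            Ideal.Quotient.mk (RingHom.ker e ^ m) ((1 : B) ⊗ₜ[A] b) ⊗ₜ[B] (1 : R') = 0 := by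
          intro b hb
          induction hb using Submodule.span_induction with
          | mem y hy => exact h _ (Finset.mem_image_of_mem _ hy)
          | zero => simp
          | add a c _ _ ha hc => rw [tmul_add, map_add, TensorProduct.add_tmul, ha, hc, add_zero]
          | smul c a _ ha =>
            let μ := (Algebra.lmul B ((B ⊗[A] B) ⧸ RingHom.ker e ^ m)
              (Ideal.Quotient.mk _ ((1 : B) ⊗ₜ[A] c))).rTensor R'
            have := congrArg μ ha
            rw [map_zero] at this
            rw [← this]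
            simp [μ, ← map_mul, smul_eq_mul]
        rintro _ ⟨b, hb, rfl⟩
        exact hspan b (hs.ge hb)
      · intro h x hx
        obtain ⟨b, hb, rfl⟩ := Finset.mem_image.1 hx
        exact h _ ⟨b, (hs ▸ Submodule.subset_span hb : b ∈ J), rfl⟩
    refine le_antisymm (iSup_le fun m => ?_) ?_
    · have hK' : ∀ x ∈ s', Ideal.Quotient.mk (RingHom.ker e ^ n) x ⊗ₜ[B] (1 : B ⧸ K) = 0 :=
        fun x hx => (hKn (B ⧸ K)).2 (by rw [Ideal.Quotient.algebraMap_eq, Ideal.mk_ker]) _
          (Finset.mem_image_of_mem _ hx)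
      have h2 := (hgen (B ⧸ K) m).1 fun x hx => by
        have := hn (B ⧸ K) (fun y hy => by
          rw [← TensorProduct.comm_tmul, hK' y hy, map_zero]) m x hx
        rw [← TensorProduct.comm_tmul, this, map_zero]
      rwa [Ideal.Quotient.algebraMap_eq, Ideal.mk_ker] at h2
    · refine le_trans ?_ (le_iSup I n)
      have h2 := (hKn (B ⧸ I n)).1 fun y hy => by
        obtain ⟨x, hx, rfl⟩ := Finset.mem_image.1 hy
        exact (hgen (B ⧸ I n) n).2 (by rw [Ideal.Quotient.algebraMap_eq, Ideal.mk_ker]) x hx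
      rwa [Ideal.Quotient.algebraMap_eq, Ideal.mk_ker] at h2
  · letI : Algebra B R := σ.toRingHom.toAlgebra
    haveI : IsScalarTower A B R := IsScalarTower.of_algebraMap_eq fun a => (σ.commutes a).symm
    let φ : B ⊗[A] B →ₐ[B] R ⊗[A] B :=
      Algebra.TensorProduct.lift (Algebra.ofId B _) Algebra.TensorProduct.includeRight
        fun _ _ => Commute.all _ _
    have hφ_tmul : ∀ b c, φ (b ⊗ₜ c) = σ b ⊗ₜ c := fun b c => by
      simp [φ, Algebra.ofId_apply, RingHom.algebraMap_toAlgebra]
    have hφ : IsBaseChange R φ.toLinearMap := by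
      refine IsBaseChange.of_equiv (TensorProduct.AlgebraTensorModule.cancelBaseChange A B R R B) ?_
      intro x
      induction x using TensorProduct.induction_on with
      | zero => simp
      | add a b ha hb => simp only [tmul_add, map_add, ha, hb]
      | tmul b c =>
        rw [TensorProduct.AlgebraTensorModule.cancelBaseChange_tmul, AlgHom.toLinearMap_apply, hφ_tmul,
          Algebra.smul_def, mul_one]
        rfl
    let e' : R ⊗[A] B →ₐ[R] R :=
      Algebra.TensorProduct.lift (AlgHom.id R R) σ fun _ _ => Commute.all _ _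
    have he : ∀ x, e' (φ x) = algebraMap B R (e x) := fun x => by
      induction x using TensorProduct.induction_on with
      | zero => simp
      | add a b ha hb => simp only [map_add, ha, hb]
      | tmul b c => rw [hφ_tmul, he_tmul, map_mul]; simp [e', RingHom.algebraMap_toAlgebra]
    have key : ∀ n b, (Ideal.Quotient.mk (RingHom.ker e ^ n) ((1 : B) ⊗ₜ[A] b)) ⊗ₜ[B] (1 : R) = 0 ↔
        (1 : R) ⊗ₜ[A] b ∈ RingHom.ker e' ^ n := fun n b => by
      have hbc := isBaseChange_nbhdMap hφ he n
      rw [← LinearEquiv.map_eq_zero_iff ((TensorProduct.comm B _ R).trans (hbc.equiv.restrictScalars B)),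
        LinearEquiv.trans_apply, TensorProduct.comm_tmul, LinearEquiv.restrictScalars_apply,
        IsBaseChange.equiv_tmul, one_smul, nbhdMap_mk, hφ_tmul, map_one, Ideal.Quotient.eq_zero_iff_mem]
    rw [show RingHom.ker σ = RingHom.ker (algebraMap B R) from rfl, iSup_le_iff]
    simp only [← hI _ R, Set.forall_mem_image, key]
    constructor
    · intro h b hb
      exact eq_zero_of_mem_pow (hirr R) e' _ fun n => h n hb
    · intro h n b hb
      rw [h b hb]
      exact zero_mem _

/-- An element vanishing after base change to each member of a jointly surjective flat family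
vanishes. -/
theorem eq_zero_of_forall_tmul {κ : Type u} (C : κ → Type u) [∀ k, CommRing (C k)]
    [∀ k, Algebra A (C k)] [∀ k, Module.Flat A (C k)]
    (hsurj : ∀ p : PrimeSpectrum A, ∃ k, ∃ q : PrimeSpectrum (C k),
      PrimeSpectrum.comap (algebraMap A (C k)) q = p)
    {M : Type u} [AddCommGroup M] [Module A M] (z : M)
    (h : ∀ k, z ⊗ₜ[A] (1 : C k) = 0) : z = 0 := by
  by_contra hz
  have htop : (LinearMap.ker (LinearMap.toSpanSingleton A M z) : Ideal A) ≠ ⊤ := by
    intro htop
    have h1 : (1 : A) ∈ LinearMap.ker (LinearMap.toSpanSingleton A M z) := htop ▸ trivial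
    exact hz (by simpa using h1)
  obtain ⟨m, hm, hle⟩ := Ideal.exists_le_maximal _ htop
  obtain ⟨k, q, hq⟩ := hsurj ⟨m, hm.isPrime⟩
  have h1 := IdealDescFpqc.mem_map_ker (LinearMap.toSpanSingleton A M z) (1 : C k) (by
    rw [LinearMap.toSpanSingleton_apply, one_smul, ← TensorProduct.comm_tmul, h k, map_zero])
  exact q.isPrime.one_notMem
    (Ideal.map_le_iff_le_comap.2 (hle.trans (le_of_eq (congrArg PrimeSpectrum.asIdeal hq).symm)) h1)

end GrothLib.SecLocus
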