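import Mathlib
import Groth.Agent.Lib.SecLocus.Universal
import Groth.Agent.Lib.EssFree.Proj
import Groth.Agent.Lib.IdealDescFpqc.Algebra

/-!
# Ideals deciding local conditions, glued from a cover by principal opens
-/

universe u

open CategoryTheory CategoryTheory.Limits AlgebraicGeometry
open scoped TensorProduct

namespace GrothLib.SecLocus

/-- A local condition on algebras which is decided by a finitely generated ideal near every prime is
decided by a finitely generated ideal. -/
theorem exists_ideal_of_local {A : Type u} [CommRing A]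
    (Q : ∀ (R : Type u) [CommRing R] [Algebra A R], Prop)
    (hmono : ∀ (R R' : Type u) [CommRing R] [CommRing R'] [Algebra A R] [Algebra A R'],
      (R →ₐ[A] R') → Q R → Q R')
    (hloc : ∀ (R : Type u) [CommRing R] [Algebra A R],
      (∀ p : PrimeSpectrum R, ∃ a ∉ p.asIdeal, Q (Localization.Away a)) → Q R)
    (h : ∀ p : PrimeSpectrum A, ∃ a ∉ p.asIdeal, ∃ L : Ideal (Localization.Away a), L.FG ∧
      ∀ (R : Type u) [CommRing R] [Algebra A R] [Algebra (Localization.Away a) R]
        [IsScalarTower A (Localization.Away a) R],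
        Q R ↔ L ≤ RingHom.ker (algebraMap (Localization.Away a) R)) :
    ∃ I : Ideal A, I.FG ∧ ∀ (R : Type u) [CommRing R] [Algebra A R],
      Q R ↔ I ≤ RingHom.ker (algebraMap A R) := by
  classical
  choose a ha L hLfg hL using h
  have hLσ : ∀ (p : PrimeSpectrum A) (R : Type u) [CommRing R] [Algebra A R]
      (σ : Localization.Away (a p) →ₐ[A] R), Q R ↔ ∀ b ∈ L p, σ b = 0 := fun p R _ _ σ => by
    letI : Algebra (Localization.Away (a p)) R := σ.toRingHom.toAlgebra
    haveI : IsScalarTower A (Localization.Away (a p)) R := IsScalarTower.of_algHom σ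
    exact hL p R
  obtain ⟨t, ht⟩ := CompactSpace.elim_nhds_subcover
    (fun p => (PrimeSpectrum.basicOpen (a p) : Set (PrimeSpectrum A)))
    (fun p => (PrimeSpectrum.basicOpen (a p)).2.mem_nhds (ha p))
  let κ : Type u := {p : PrimeSpectrum A // p ∈ t}
  let C : κ → Type u := fun k => Localization.Away (a k.1)
  have hflat : ∀ k : κ, Module.Flat A (C k) := fun k =>
    IsLocalization.flat (Localization.Away (a k.1)) (Submonoid.powers (a k.1))
  have hcov : ∀ p : PrimeSpectrum A, ∃ k : κ, a k.1 ∉ p.asIdeal := fun p => by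
    obtain ⟨q, hq, hpq⟩ := Set.mem_iUnion₂.1 (ht.ge (Set.mem_univ p))
    exact ⟨⟨q, hq⟩, hpq⟩
  have hsurj : ∀ p : PrimeSpectrum A, ∃ k : κ, ∃ q : PrimeSpectrum (C k),
      PrimeSpectrum.comap (algebraMap A (C k)) q = p := fun p => by
    obtain ⟨k, hk⟩ := hcov p
    exact ⟨k, (PrimeSpectrum.localization_away_comap_range (Localization.Away (a k.1)) (a k.1)).ge hk⟩
  let I : Ideal A := ⨅ k : κ, (L k.1).comap (algebraMap A (C k))
  have hLI : ∀ k : κ, L k.1 = I.map (algebraMap A (C k)) := by
    intro k
    refine le_antisymm ?_ (Ideal.map_le_iff_le_comap.2 (iInf_le _ k))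
    refine IdealDescFpqc.le_map_iInf_comap C (C k) (fun i => L i.1) (L k.1) fun i => ?_
    let K : Ideal (C k ⊗[A] C i) := (L i.1).map
      (Algebra.TensorProduct.includeRight : C i →ₐ[A] C k ⊗[A] C i).toRingHom
    let σi : C i →ₐ[A] (C k ⊗[A] C i) ⧸ K :=
      (Ideal.Quotient.mkₐ A K).comp Algebra.TensorProduct.includeRight
    let σk : C k →ₐ[A] (C k ⊗[A] C i) ⧸ K :=
      (Ideal.Quotient.mkₐ A K).comp Algebra.TensorProduct.includeLeft
    have hQ : Q ((C k ⊗[A] C i) ⧸ K) :=
      (hLσ i.1 ((C k ⊗[A] C i) ⧸ K) σi).2 fun b hb =>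
        Ideal.Quotient.eq_zero_iff_mem.2 (Ideal.mem_map_of_mem _ hb)
    have hk : ∀ b ∈ L k.1, σk b = 0 := (hLσ k.1 ((C k ⊗[A] C i) ⧸ K) σk).1 hQ
    refine Ideal.map_le_iff_le_comap.2 fun b hb => ?_
    exact (Ideal.Quotient.eq_zero_iff_mem (I := K)).1 (hk b hb)
  refine ⟨I, ?_, fun R _ _ => ⟨fun hR x hx => ?_, fun hR => hloc R fun p => ?_⟩⟩
  · refine Ideal.fg_of_localizationSpan (Set.range fun k : κ => a k.1) ?_ ?_
    · by_contra hne
      obtain ⟨m, hm, hle⟩ := Ideal.exists_le_maximal _ hne
      obtain ⟨k, hk⟩ := hcov ⟨m, hm.isPrime⟩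
      exact hk (hle (Ideal.subset_span ⟨k, rfl⟩))
    · rintro ⟨_, k, rfl⟩
      exact hLI k ▸ hLfg k.1
  · refine eq_zero_of_forall_tmul C hsurj (show R from algebraMap A R x) fun k => ?_
    let σ : C k →ₐ[A] R ⊗[A] C k := Algebra.TensorProduct.includeRight
    have h1 : ∀ b ∈ L k.1, σ b = 0 :=
      (hLσ k.1 (R ⊗[A] C k) σ).1 (hmono R _ Algebra.TensorProduct.includeLeft hR)
    have h2 : σ (algebraMap A (C k) x) = 0 := h1 _ (Ideal.mem_iInf.1 hx k)
    rw [AlgHom.commutes] at h2
    exact h2
  · obtain ⟨k, hk⟩ := hcov (PrimeSpectrum.comap (algebraMap A R) p)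
    refine ⟨algebraMap A R (a k.1), hk, ?_⟩
    have hu : IsUnit (algebraMap A (Localization.Away (algebraMap A R (a k.1))) (a k.1)) := by
      rw [IsScalarTower.algebraMap_apply A R (Localization.Away (algebraMap A R (a k.1)))]
      exact IsLocalization.Away.algebraMap_isUnit _
    letI : Algebra (Localization.Away (a k.1)) (Localization.Away (algebraMap A R (a k.1))) :=
      (IsLocalization.Away.lift (S := Localization.Away (a k.1)) (a k.1) hu).toAlgebra
    haveI : IsScalarTower A (Localization.Away (a k.1)) (Localization.Away (algebraMap A R (a k.1))) :=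
      IsScalarTower.of_algebraMap_eq fun x =>
        (IsLocalization.Away.lift_eq (S := Localization.Away (a k.1)) (a k.1) hu x).symm
    refine (hL k.1 _).2 ?_
    rw [show L k.1 = I.map (algebraMap A (C k)) from hLI k, Ideal.map_le_iff_le_comap]
    intro x hx
    show algebraMap (Localization.Away (a k.1)) (Localization.Away (algebraMap A R (a k.1)))
      (algebraMap A (Localization.Away (a k.1)) x) = 0
    rw [← IsScalarTower.algebraMap_apply,
      IsScalarTower.algebraMap_apply A R (Localization.Away (algebraMap A R (a k.1))),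
      show algebraMap A R x = 0 from hR hx, map_zero]

/-- The factorisation property over an affine scheme mapping to the base. -/
theorem factorsThrough_hloc {X Y S : Scheme.{u}} (f : X ⟶ S) (j : Y ⟶ X) [Mono j] {R : Type u}
    [CommRing R] (g : Spec (CommRingCat.of R) ⟶ S)
    (h : ∀ p : PrimeSpectrum R, ∃ a ∉ p.asIdeal, EssFree.FactorsThrough f j _
      (Spec.map (CommRingCat.ofHom (algebraMap R (Localization.Away a))) ≫ g)) :
    EssFree.FactorsThrough f j (Spec (CommRingCat.of R)) g := by
  refine EssFree.factorsThrough_of_local f j g fun p => ?_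
  obtain ⟨a, ha, hQ⟩ := h p
  let o := Spec.map (CommRingCat.ofHom (algebraMap R (Localization.Away a)))
  haveI : IsOpenImmersion o := IsOpenImmersion.of_isLocalization a
  refine ⟨o.opensRange, (PrimeSpectrum.localization_away_comap_range (Localization.Away a) a).ge ha, ?_⟩
  have := EssFree.factorsThrough_comp f j o.isoOpensRange.inv _ hQ
  rwa [← Category.assoc, show o.isoOpensRange.inv ≫ o = o.opensRange.ι from
    Scheme.Hom.isoOpensRange_inv_comp o] at this

end GrothLib.SecLocus
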