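import Mathlib
import Groth.Agent.Lib.SecLocus.Dense
import Groth.Agent.Lib.EssFree.Basic

/-!
# Fibrewise dense opens of smooth schemes, and affine charts of a base change
-/

universe u

open CategoryTheory CategoryTheory.Limits AlgebraicGeometry
open scoped TensorProduct

namespace GrothLib.SecLocus

/-- A morphism out of a smooth scheme with irreducible fibres factors through a closed subscheme as
soon as its restriction to an open meeting every nonempty fibre does. -/
theorem exists_factor_of_dense {X S Z E : Scheme.{u}} (f : X ⟶ S) [Smooth f]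
    (hirr : ∀ s, IsPreirreducible (f ⁻¹' {s})) (h : X ⟶ Z) (e : E ⟶ Z) [IsClosedImmersion e]
    (U : X.Opens) (hU : ∀ x, ∃ u ∈ U, f u = f x) (hl : ∃ l : (U : Scheme) ⟶ E, l ≫ e = U.ι ≫ h) :
    ∃ l : X ⟶ E, l ≫ e = h := by
  obtain ⟨l, hl⟩ := hl
  refine EssFree.factors_of_local e h fun x => ?_
  obtain ⟨_, ⟨V, hV, rfl⟩, hxV, -⟩ :=
    S.isBasis_affineOpens.exists_subset_of_mem_open (Set.mem_univ (f x)) isOpen_univ
  obtain ⟨_, ⟨W, hW, rfl⟩, hxW, hWV⟩ :=
    X.isBasis_affineOpens.exists_subset_of_mem_open (a := x) (show x ∈ (f ⁻¹ᵁ V : Set X) from hxV)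
      (f ⁻¹ᵁ V).2
  have hV : IsAffineOpen V := hV
  have hW : IsAffineOpen W := hW
  have hWV : W ≤ f ⁻¹ᵁ V := hWV
  let _ := (f.appLE V W hWV).hom.toAlgebra
  have hsm : Algebra.Smooth Γ(S, V) Γ(X, W) :=
    HasRingHomProperty.appLE (P := @Smooth) f inferInstance ⟨V, hV⟩ ⟨W, hW⟩ hWV
  have := hV.isOpenImmersion_fromSpec
  have := hW.isOpenImmersion_fromSpec
  have hcomm : ∀ r : PrimeSpectrum Γ(X, W),
      f (hW.fromSpec r) = hV.fromSpec (PrimeSpectrum.comap (algebraMap Γ(S, V) Γ(X, W)) r) := fun r => by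
    have := congrArg (fun q => q r) (hV.SpecMap_appLE_fromSpec f hW hWV)
    exact this.symm
  have hinjV : Function.Injective hV.fromSpec := hV.fromSpec.isOpenEmbedding.injective
  have hfib : ∀ p : PrimeSpectrum Γ(S, V),
      IsPreirreducible (PrimeSpectrum.comap (algebraMap Γ(S, V) Γ(X, W)) ⁻¹' {p}) := fun p => by
    have h1 : PrimeSpectrum.comap (algebraMap Γ(S, V) Γ(X, W)) ⁻¹' {p} =
        hW.fromSpec ⁻¹' (f ⁻¹' {hV.fromSpec p}) := by
      ext r
      exact ⟨fun hr => (hcomm r).trans (congrArg hV.fromSpec hr),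
        fun hr => hinjV ((hcomm r).symm.trans hr)⟩
    rw [h1]
    exact (hirr _).preimage hW.fromSpec.isOpenEmbedding
  obtain ⟨J, hJ⟩ := EssFree.exists_ideal_factors e (hW.fromSpec ≫ h)
  have hJ0 : J ≤ RingHom.ker (𝟙 Γ(X, W) : Γ(X, W) ⟶ Γ(X, W)).hom := fun j hj => by
    show j = 0
    refine eq_zero_of_forall_fibre hfib j fun q => ?_
    obtain ⟨v, hvU, hv⟩ := hU (hW.fromSpec q)
    have hqW : hW.fromSpec q ∈ W := hW.range_fromSpec.le ⟨q, rfl⟩
    obtain ⟨z, hz, hzW, hzU⟩ := hirr (f (hW.fromSpec q)) W U W.2 U.2 ⟨_, rfl, hqW⟩ ⟨v, hv, hvU⟩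
    have hzr : z ∈ Set.range hW.fromSpec := by rw [hW.range_fromSpec]; exact hzW
    obtain ⟨q', rfl⟩ := hzr
    obtain ⟨s, hs, hq'g, hgU⟩ :=
      (PrimeSpectrum.isTopologicalBasis_basic_opens (R := Γ(X, W))).exists_subset_of_mem_open
        (show q' ∈ hW.fromSpec ⁻¹' (U : Set X) from hzU) (U.2.preimage hW.fromSpec.continuous)
    obtain ⟨g, rfl⟩ := hs
    let ψ : Γ(X, W) ⟶ CommRingCat.of (Localization.Away g) :=
      CommRingCat.ofHom (algebraMap Γ(X, W) (Localization.Away g))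
    have hr : Set.range (Spec.map ψ ≫ hW.fromSpec) ⊆ Set.range U.ι := by
      rw [Scheme.Opens.range_ι]
      rintro _ ⟨t, rfl⟩
      refine hgU ?_
      exact (PrimeSpectrum.localization_away_comap_range (Localization.Away g) g).le ⟨t, rfl⟩
    have hker : J ≤ RingHom.ker ψ.hom := (hJ ψ).1 ⟨IsOpenImmersion.lift U.ι _ hr ≫ l, by
      rw [Category.assoc, hl, IsOpenImmersion.lift_fac_assoc, Category.assoc]⟩
    obtain ⟨⟨_, N, rfl⟩, hN⟩ := (IsLocalization.map_eq_zero_iff (Submonoid.powers g)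
      (Localization.Away g) j).1 (hker hj)
    refine ⟨g ^ N, q', ?_, fun h => hq'g (q'.isPrime.mem_of_pow_mem N h), hN⟩
    apply hinjV
    rw [← hcomm, ← hcomm]
    exact hz
  obtain ⟨l₀, hl₀⟩ := (hJ (𝟙 _)).2 hJ0
  refine ⟨_, hW.fromSpec, inferInstance, l₀, by rw [hW.range_fromSpec]; exact hxW, ?_⟩
  rw [hl₀, Spec.map_id, Category.id_comp]

/-- The chart of a base change given by a chart of the source. -/
theorem exists_chart {X S : Scheme.{u}} (f : X ⟶ S) {U : S.Opens} (hU : IsAffineOpen U)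
    {B : Type u} [CommRing B] [Algebra Γ(S, U) B] (φ : Spec (CommRingCat.of B) ⟶ X) [IsOpenImmersion φ]
    (hcomp : φ ≫ f = Spec.map (CommRingCat.ofHom (algebraMap Γ(S, U) B)) ≫ hU.fromSpec)
    (R : Type u) [CommRing R] [Algebra Γ(S, U) R] :
    let g := Spec.map (CommRingCat.ofHom (algebraMap Γ(S, U) R)) ≫ hU.fromSpec
    ∃ c : Spec (CommRingCat.of (B ⊗[Γ(S, U)] R)) ⟶ pullback f g,
      IsOpenImmersion c ∧
      Set.range c = pullback.fst f g ⁻¹' Set.range φ ∧
      c ≫ pullback.fst f g =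
        Spec.map (CommRingCat.ofHom Algebra.TensorProduct.includeLeftRingHom) ≫ φ ∧
      c ≫ pullback.snd f g =
        Spec.map (CommRingCat.ofHom
          (Algebra.TensorProduct.includeRight (A := B) (B := R)).toRingHom) := by
  intro g
  let θ := CommRingCat.ofHom (algebraMap Γ(S, U) B)
  let α := CommRingCat.ofHom (algebraMap Γ(S, U) R)
  have h0 : IsPullback (Spec.map (CommRingCat.ofHom
        (Algebra.TensorProduct.includeLeftRingHom : B →+* B ⊗[Γ(S, U)] R)))
      (Spec.map (CommRingCat.ofHom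
        (Algebra.TensorProduct.includeRight (A := B) (B := R)).toRingHom))
      (Spec.map θ) (Spec.map α) :=
    isPullback_SpecMap_of_isPushout _ _ _ _ (CommRingCat.isPushout_tensorProduct Γ(S, U) B R)
  have := hU.isOpenImmersion_fromSpec
  have h1 : IsPullback (Spec.map (CommRingCat.ofHom
        (Algebra.TensorProduct.includeLeftRingHom : B →+* B ⊗[Γ(S, U)] R)))
      (Spec.map (CommRingCat.ofHom
        (Algebra.TensorProduct.includeRight (A := B) (B := R)).toRingHom))
      (φ ≫ f) (Spec.map α ≫ hU.fromSpec) := by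
    have h2 := h0.flip.paste_horiz (IsPullback.of_horiz_isIso_mono
      (fst := 𝟙 (Spec (CommRingCat.of R))) (snd := Spec.map α) (f := Spec.map α ≫ hU.fromSpec) (g := hU.fromSpec)
      ⟨by simp⟩)
    rw [hcomp]
    simpa only [Category.comp_id] using h2.flip
  let c := pullback.lift (f := f) (g := Spec.map α ≫ hU.fromSpec)
    (Spec.map (CommRingCat.ofHom
      (Algebra.TensorProduct.includeLeftRingHom : B →+* B ⊗[Γ(S, U)] R)) ≫ φ)
    (Spec.map (CommRingCat.ofHom (Algebra.TensorProduct.includeRight (A := B) (B := R)).toRingHom))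
    (by rw [Category.assoc]; exact h1.w)
  have hc₁ := pullback.lift_fst (f := f) (g := Spec.map α ≫ hU.fromSpec)
    (Spec.map (CommRingCat.ofHom
      (Algebra.TensorProduct.includeLeftRingHom : B →+* B ⊗[Γ(S, U)] R)) ≫ φ)
    (Spec.map (CommRingCat.ofHom (Algebra.TensorProduct.includeRight (A := B) (B := R)).toRingHom))
    (by rw [Category.assoc]; exact h1.w)
  have hc₂ := pullback.lift_snd (f := f) (g := Spec.map α ≫ hU.fromSpec)
    (Spec.map (CommRingCat.ofHom
      (Algebra.TensorProduct.includeLeftRingHom : B →+* B ⊗[Γ(S, U)] R)) ≫ φ)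
    (Spec.map (CommRingCat.ofHom (Algebra.TensorProduct.includeRight (A := B) (B := R)).toRingHom))
    (by rw [Category.assoc]; exact h1.w)
  have h3 : IsPullback (Spec.map (CommRingCat.ofHom
      (Algebra.TensorProduct.includeLeftRingHom : B →+* B ⊗[Γ(S, U)] R))) c φ
      (pullback.fst f (Spec.map α ≫ hU.fromSpec)) :=
    (IsPullback.of_right (h₁₁ := c) (h₁₂ := pullback.snd f (Spec.map α ≫ hU.fromSpec))
      (v₁₁ := Spec.map (CommRingCat.ofHom Algebra.TensorProduct.includeLeftRingHom))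
      (v₁₂ := pullback.fst f (Spec.map α ≫ hU.fromSpec)) (h₂₁ := φ) (h₂₂ := f)
      (by rw [hc₂]; exact h1.flip) hc₁ (IsPullback.of_hasPullback f _).flip).flip
  refine ⟨c, MorphismProperty.of_isPullback (P := @IsOpenImmersion) h3 inferInstance, ?_, hc₁, hc₂⟩
  rw [← h3.isoPullback_hom_snd, Scheme.Hom.comp_base, TopCat.coe_comp, Set.range_comp,
    Set.range_eq_univ.2 h3.isoPullback.hom.surjective, Set.image_univ,
    Scheme.Pullback.range_snd]

end GrothLib.SecLocus
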