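import Mathlib
import Groth.Agent.Lib.SecLocus.Universal
import Groth.Agent.Lib.SecLocus.Factor
import Groth.Agent.Lib.EssFree.Proj

/-!
# The locus of the base over which a closed subscheme contains a smooth scheme with geometrically
irreducible fibres
-/

universe u

open CategoryTheory CategoryTheory.Limits AlgebraicGeometry
open scoped TensorProduct

namespace GrothLib.SecLocus

/-- The ideal testing factorisation through a closed immersion defines the base change. -/
theorem exists_iso_factors {E Y : Scheme.{u}} (e : E ⟶ Y) [IsClosedImmersion e] {B : CommRingCat.{u}}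
    (φ : Spec B ⟶ Y) (J : Ideal B)
    (hJ : ∀ {C : CommRingCat.{u}} (θ : B ⟶ C),
      (∃ l : Spec C ⟶ E, l ≫ e = Spec.map θ ≫ φ) ↔ J ≤ RingHom.ker θ.hom) :
    ∃ i : pullback e φ ≅ Spec (CommRingCat.of (B ⧸ J)),
      pullback.snd e φ = i.hom ≫ Spec.map (CommRingCat.ofHom (Ideal.Quotient.mk J)) := by
  have : IsClosedImmersion (pullback.snd e φ) :=
    MorphismProperty.pullback_snd e φ inferInstance
  obtain ⟨K, i, hi⟩ := IsClosedImmersion.Spec_iff.mp this
  have h1 : J ≤ K := by
    have := (hJ (CommRingCat.ofHom (Ideal.Quotient.mk K))).1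
      ⟨i.inv ≫ pullback.fst e φ, by
        rw [Category.assoc, pullback.condition, hi, Category.assoc, Iso.inv_hom_id_assoc]⟩
    rwa [CommRingCat.hom_ofHom, Ideal.mk_ker] at this
  have h2 : K ≤ J := by
    obtain ⟨l, hl⟩ := (hJ (CommRingCat.ofHom (Ideal.Quotient.mk J))).2 (le_of_eq Ideal.mk_ker.symm)
    let m := Spec.preimage (pullback.lift l _ hl ≫ i.hom)
    have hθ : CommRingCat.ofHom (Ideal.Quotient.mk J) = CommRingCat.ofHom (Ideal.Quotient.mk K) ≫ m :=
      Spec.map_injective (by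
        rw [Spec.map_comp, Spec.map_preimage, Category.assoc, ← hi, pullback.lift_snd])
    intro b hb
    rw [← Ideal.Quotient.eq_zero_iff_mem]
    show (CommRingCat.ofHom (Ideal.Quotient.mk J)).hom b = 0
    rw [hθ]
    show m.hom (Ideal.Quotient.mk K b) = 0
    rw [Ideal.Quotient.eq_zero_iff_mem.mpr hb, map_zero]
  obtain rfl := le_antisymm h2 h1
  exact ⟨i, hi⟩

/-- The ideal testing factorisation through a closed immersion of finite presentation is finitely
generated. -/
theorem fg_of_factors {E Y : Scheme.{u}} (e : E ⟶ Y) [IsClosedImmersion e]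
    [LocallyOfFinitePresentation e] {B : CommRingCat.{u}}
    (φ : Spec B ⟶ Y) (J : Ideal B)
    (hJ : ∀ {C : CommRingCat.{u}} (θ : B ⟶ C),
      (∃ l : Spec C ⟶ E, l ≫ e = Spec.map θ ≫ φ) ↔ J ≤ RingHom.ker θ.hom) : J.FG := by
  obtain ⟨i, hi⟩ := exists_iso_factors e φ J hJ
  have h : LocallyOfFinitePresentation (pullback.snd e φ) :=
    MorphismProperty.pullback_snd e φ inferInstance
  rw [hi, MorphismProperty.cancel_left_of_respectsIso (P := @LocallyOfFinitePresentation),
    HasRingHomProperty.Spec_iff (P := @LocallyOfFinitePresentation)] at h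
  have h' : Algebra.FinitePresentation B (B ⧸ J) := RingHom.finitePresentation_algebraMap.1 h
  have := Algebra.FinitePresentation.ker_fG_of_surjective (Algebra.ofId B (B ⧸ J))
    Ideal.Quotient.mk_surjective
  rwa [show RingHom.ker (Algebra.ofId B (B ⧸ J)).toRingHom = J from Ideal.mk_ker] at this

/-- A closed immersion cut out on affine opens by finitely generated ideals is of finite
presentation. -/
theorem locallyOfFinitePresentation_of_factors {Z T : Scheme.{u}} (ι : Z ⟶ T) [IsClosedImmersion ι]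
    (h : ∀ U : T.affineOpens, ∃ I : Ideal Γ(T, U), I.FG ∧
      ∀ {R : CommRingCat.{u}} (α : Γ(T, U) ⟶ R),
        (∃ z : Spec R ⟶ Z, z ≫ ι = Spec.map α ≫ U.2.fromSpec) ↔ I ≤ RingHom.ker α.hom) :
    LocallyOfFinitePresentation ι := by
  refine (IsZariskiLocalAtTarget.iff_of_openCover (P := @LocallyOfFinitePresentation)
    T.affineCover).2 fun k => ?_
  let φ := T.affineCover.f k
  let U : T.affineOpens := ⟨φ.opensRange, isAffineOpen_opensRange φ⟩
  obtain ⟨I, hI, hI'⟩ := h U
  obtain ⟨i, hi⟩ := exists_iso_factors ι U.2.fromSpec I fun θ => hI' θ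
  have hU : LocallyOfFinitePresentation (pullback.snd ι U.2.fromSpec) := by
    rw [hi, MorphismProperty.cancel_left_of_respectsIso (P := @LocallyOfFinitePresentation),
      HasRingHomProperty.Spec_iff (P := @LocallyOfFinitePresentation)]
    exact RingHom.finitePresentation_algebraMap.2 (Algebra.FinitePresentation.quotient hI)
  have hr : Set.range φ ⊆ Set.range U.2.fromSpec := by rw [U.2.range_fromSpec]; exact le_rfl
  have := U.2.isOpenImmersion_fromSpec
  let v := IsOpenImmersion.lift U.2.fromSpec φ hr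
  have hv : v ≫ U.2.fromSpec = φ := IsOpenImmersion.lift_fac _ _ _
  show LocallyOfFinitePresentation (pullback.snd ι φ)
  let w : pullback ι φ ⟶ pullback ι U.2.fromSpec :=
    pullback.lift (pullback.fst ι φ) (pullback.snd ι φ ≫ v) (by rw [Category.assoc, hv, pullback.condition])
  have h2 : IsPullback w (pullback.snd ι φ) (pullback.snd ι U.2.fromSpec) v :=
    IsPullback.of_right (h₁₂ := pullback.fst ι U.2.fromSpec) (h₂₂ := U.2.fromSpec) (v₁₃ := ι)
      (by
        rw [pullback.lift_fst, hv]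
        exact IsPullback.of_hasPullback ι φ)
      (pullback.lift_snd _ _ _) (IsPullback.of_hasPullback ι U.2.fromSpec)
  exact MorphismProperty.of_isPullback (P := @LocallyOfFinitePresentation) h2 hU

/-- A smooth morphism with connected geometric fibres has irreducible geometric fibres. -/
theorem geometricallyIrreducible_of_smooth {X S : Scheme.{u}} (f : X ⟶ S) [Smooth f]
    [GeometricallyConnected f] : GeometricallyIrreducible f :=
  ⟨fun K _ y Z fst snd h => by
    have : ConnectedSpace Z := GeometricallyConnected.geometrically_connectedSpace y fst snd h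
    have : Smooth snd := MorphismProperty.of_isPullback (P := @Smooth) h inferInstance
    exact irreducibleSpace_of_smooth_connected K snd⟩

variable {S X Y : Scheme.{u}} (f : X ⟶ S) [Smooth f] [GeometricallyIrreducible f]
  (j : Y ⟶ X) [IsClosedImmersion j]

set_option maxHeartbeats 800000 in
/-- The locus on an affine open of the base. -/
theorem exists_ideal (U : S.affineOpens) :
    ∃ I : Ideal Γ(S, U), (LocallyOfFinitePresentation j → I.FG) ∧
      ∀ {R : CommRingCat.{u}} (α : Γ(S, U) ⟶ R),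
        EssFree.FactorsThrough f j (Spec R) (Spec.map α ≫ U.2.fromSpec) ↔
          I ≤ RingHom.ker α.hom := by
  classical
  have := U.2.isOpenImmersion_fromSpec
  let Idx := {x : X // f x ∈ U.1}
  have hW : ∀ y : Idx, ∃ W : X.Opens, IsAffineOpen W ∧ y.1 ∈ W ∧ W ≤ f ⁻¹ᵁ U.1 := fun y => by
    obtain ⟨_, ⟨W, hW, rfl⟩, hxW, hWV⟩ :=
      X.isBasis_affineOpens.exists_subset_of_mem_open (a := y.1)
        (show y.1 ∈ (f ⁻¹ᵁ U.1 : Set X) from y.2) (f ⁻¹ᵁ U.1).2
    exact ⟨W, hW, hxW, hWV⟩
  choose W hWa hyW hWU using hW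
  letI algW : ∀ y : Idx, Algebra Γ(S, U) Γ(X, W y) := fun y => (f.appLE U.1 (W y) (hWU y)).hom.toAlgebra
  have hsm : ∀ y, Algebra.Smooth Γ(S, U) Γ(X, W y) := fun y =>
    HasRingHomProperty.appLE (P := @Smooth) f inferInstance U ⟨W y, hWa y⟩ (hWU y)
  have hφ : ∀ y, IsOpenImmersion (hWa y).fromSpec := fun y => (hWa y).isOpenImmersion_fromSpec
  have hcomp : ∀ y, (hWa y).fromSpec ≫ f =
      Spec.map (CommRingCat.ofHom (algebraMap Γ(S, U) Γ(X, W y))) ≫ U.2.fromSpec := fun y =>
    (IsAffineOpen.SpecMap_appLE_fromSpec f U.2 (hWa y) (hWU y)).symm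
  choose J hJ using fun y => EssFree.exists_ideal_factors j (hWa y).fromSpec
  -- fibres of the charts after base change
  have hirr : ∀ (y : Idx) (R : Type u) [CommRing R] [Algebra Γ(S, U) R] (p : PrimeSpectrum R),
      IsPreirreducible (PrimeSpectrum.comap (algebraMap R (R ⊗[Γ(S, U)] Γ(X, W y))) ⁻¹' {p}) := by
    intro y R _ _ p
    let α : Γ(S, U) ⟶ CommRingCat.of R := CommRingCat.ofHom (algebraMap Γ(S, U) R)
    obtain ⟨c, hc, -, -, hc₂⟩ := exists_chart f U.2 (hWa y).fromSpec (hcomp y) R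
    let cm : CommRingCat.of (Γ(X, W y) ⊗[Γ(S, U)] R) ≅ CommRingCat.of (R ⊗[Γ(S, U)] Γ(X, W y)) :=
      (Algebra.TensorProduct.comm Γ(S, U) Γ(X, W y) R).toRingEquiv.toCommRingCatIso
    let d := Spec.map cm.hom ≫ c
    have hd : d ≫ pullback.snd f (Spec.map α ≫ U.2.fromSpec) =
        Spec.map (CommRingCat.ofHom (algebraMap R (R ⊗[Γ(S, U)] Γ(X, W y)))) := by
      rw [Category.assoc]
      refine (congrArg (Spec.map cm.hom ≫ ·) hc₂).trans ?_
      rw [← Spec.map_comp]
      congr 1
    have hsub : PrimeSpectrum.comap (algebraMap R (R ⊗[Γ(S, U)] Γ(X, W y))) ⁻¹' {p} =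
        d ⁻¹' (pullback.snd f (Spec.map α ≫ U.2.fromSpec) ⁻¹' {p}) := by
      ext r
      have h1 := congrArg (fun q => q r) hd
      exact ⟨fun hr => h1.trans hr, fun hr => h1.symm.trans hr⟩
    rw [hsub]
    exact ((Scheme.Hom.isIrreducible_preimage (pullback.snd f (Spec.map α ≫ U.2.fromSpec))
      (pullback.snd f (Spec.map α ≫ U.2.fromSpec)).isOpenMap
      isIrreducible_singleton).isPreirreducible).preimage d.isOpenEmbedding
  choose L hLfg hL using fun y => exists_universal (hirr y) (J y)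
  -- the conditions on charts
  let P : Idx → ∀ (R : Type u) [CommRing R] [Algebra Γ(S, U) R], Prop :=
    fun y R _ _ => ∀ b ∈ J y, b ⊗ₜ[Γ(S, U)] (1 : R) = 0
  have hL' : ∀ (y : Idx) (R : Type u) [CommRing R] [Algebra Γ(S, U) R]
      (σ : Γ(X, W y) →ₐ[Γ(S, U)] R), L y ≤ RingHom.ker σ ↔ P y R := by
    intro y R _ _ σ
    rw [hL y R σ]
    refine forall₂_congr fun b _ => ?_
    rw [← TensorProduct.comm_tmul, LinearEquiv.map_eq_zero_iff]
  have key₁ : ∀ (R : Type u) [CommRing R] [Algebra Γ(S, U) R],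
      EssFree.FactorsThrough f j (Spec (CommRingCat.of R))
        (Spec.map (CommRingCat.ofHom (algebraMap Γ(S, U) R)) ≫ U.2.fromSpec) ↔ ∀ y, P y R := by
    intro R _ _
    let α : Γ(S, U) ⟶ CommRingCat.of R := CommRingCat.ofHom (algebraMap Γ(S, U) R)
    constructor
    · rintro ⟨l, hl⟩ y b hb
      obtain ⟨c, -, -, hc₁, -⟩ := exists_chart f U.2 (hWa y).fromSpec (hcomp y) R
      exact (hJ y _).1 ⟨c ≫ l, by rw [Category.assoc, hl]; exact hc₁⟩ hb
    · intro h
      refine EssFree.factors_of_local j _ fun q => ?_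
      have hq : f (pullback.fst f (Spec.map α ≫ U.2.fromSpec) q) ∈ U.1 := by
        have h1 := congrArg (fun m => m q) (pullback.condition (f := f) (g := Spec.map α ≫ U.2.fromSpec))
        exact (U.2.range_fromSpec.le ⟨_, h1.symm⟩)
      let y : Idx := ⟨_, hq⟩
      obtain ⟨c, hc, hr, hc₁, -⟩ := exists_chart f U.2 (hWa y).fromSpec (hcomp y) R
      obtain ⟨l, hl⟩ := (hJ y (CommRingCat.ofHom
        (Algebra.TensorProduct.includeLeftRingHom : Γ(X, W y) →+* Γ(X, W y) ⊗[Γ(S, U)] R))).2
          (fun b hb => h y b hb)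
      refine ⟨_, c, hc, l, ?_, hl.trans hc₁.symm⟩
      rw [hr]
      show pullback.fst f _ q ∈ Set.range (hWa y).fromSpec
      rw [(hWa y).range_fromSpec]
      exact hyW y
  have key₂ : ∀ (R : Type u) [CommRing R] [Algebra Γ(S, U) R] (y : Idx),
      (Γ(X, W y) →ₐ[Γ(S, U)] R) → P y R →
        EssFree.FactorsThrough f j (Spec (CommRingCat.of R))
          (Spec.map (CommRingCat.ofHom (algebraMap Γ(S, U) R)) ≫ U.2.fromSpec) := by
    intro R _ _ y σ hP
    let α : Γ(S, U) ⟶ CommRingCat.of R := CommRingCat.ofHom (algebraMap Γ(S, U) R)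
    obtain ⟨c, hc, -, hc₁, hc₂⟩ := exists_chart f U.2 (hWa y).fromSpec (hcomp y) R
    obtain ⟨l, hl⟩ := (hJ y (CommRingCat.ofHom
      (Algebra.TensorProduct.includeLeftRingHom : Γ(X, W y) →+* Γ(X, W y) ⊗[Γ(S, U)] R))).2
        (fun b hb => hP b hb)
    let ν : CommRingCat.of (Γ(X, W y) ⊗[Γ(S, U)] R) ⟶ CommRingCat.of R := CommRingCat.ofHom
      (Algebra.TensorProduct.lift σ (AlgHom.id Γ(S, U) R) fun _ _ => Commute.all _ _).toRingHom
    have hν : Spec.map ν ≫ c ≫ pullback.snd f (Spec.map α ≫ U.2.fromSpec) = 𝟙 (Spec (CommRingCat.of R)) := by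
      refine (congrArg (Spec.map ν ≫ ·) hc₂).trans ?_
      rw [← Spec.map_comp, ← Spec.map_id]
      congr 1
      refine CommRingCat.hom_ext (RingHom.ext fun r => ?_)
      show Algebra.TensorProduct.lift σ (AlgHom.id Γ(S, U) R) (fun _ _ => Commute.all _ _) (1 ⊗ₜ r) = r
      rw [Algebra.TensorProduct.lift_tmul, map_one, one_mul]
      rfl
    refine exists_factor_of_dense (pullback.snd f (Spec.map α ≫ U.2.fromSpec))
      (fun s => ((Scheme.Hom.isIrreducible_preimage (pullback.snd f (Spec.map α ≫ U.2.fromSpec))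
        (pullback.snd f (Spec.map α ≫ U.2.fromSpec)).isOpenMap
        isIrreducible_singleton).isPreirreducible))
      (pullback.fst f (Spec.map α ≫ U.2.fromSpec)) j c.opensRange (fun x => ?_) ?_
    · refine ⟨c (Spec.map ν (pullback.snd f (Spec.map α ≫ U.2.fromSpec) x)), ⟨_, rfl⟩, ?_⟩
      exact congrArg (fun m => m (pullback.snd f (Spec.map α ≫ U.2.fromSpec) x)) hν
    · have hr : Set.range c.opensRange.ι ⊆ Set.range c := by
        rw [Scheme.Opens.range_ι]; exact le_rfl
      refine ⟨IsOpenImmersion.lift c c.opensRange.ι hr ≫ l, ?_⟩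
      rw [Category.assoc, hl, ← hc₁, IsOpenImmersion.lift_fac_assoc]
  -- finitely many charts covering the open
  obtain ⟨t, ht⟩ := U.2.isCompact.elim_finite_subcover (fun y : Idx => f '' (W y : Set X))
    (fun y => f.isOpenMap _ (W y).2) (fun s hs => by
      obtain ⟨x, rfl⟩ := f.surjective s
      exact Set.mem_iUnion.2 ⟨⟨x, hs⟩, x, hyW _, rfl⟩)
  let κ : Type u := {y : Idx // y ∈ t}
  let C : κ → Type u := fun k => Γ(X, W k.1)
  have hsurj : ∀ p : PrimeSpectrum Γ(S, U), ∃ k : κ, ∃ q : PrimeSpectrum (C k),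
      PrimeSpectrum.comap (algebraMap Γ(S, U) (C k)) q = p := fun p => by
    obtain ⟨y, hy, x, hxW, hx⟩ := Set.mem_iUnion₂.1 (ht (U.2.range_fromSpec.le ⟨p, rfl⟩))
    have hxr : x ∈ Set.range (hWa y).fromSpec := by rw [(hWa y).range_fromSpec]; exact hxW
    obtain ⟨q, rfl⟩ := hxr
    refine ⟨⟨y, hy⟩, q, U.2.fromSpec.isOpenEmbedding.injective ?_⟩
    exact (congrArg (fun m => m q) (hcomp y)).symm.trans hx
  have hflat : ∀ k : κ, Module.Flat Γ(S, U) (C k) := fun k => inferInstanceAs (Module.Flat _ Γ(X, W k.1))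
  let I : Ideal Γ(S, U) := ⨅ k : κ, (L k.1).comap (algebraMap Γ(S, U) (C k))
  -- restriction of the condition
  have hmono : ∀ (y : Idx) {R R' : Type u} [CommRing R] [CommRing R'] [Algebra Γ(S, U) R]
      [Algebra Γ(S, U) R'] (π : R →ₐ[Γ(S, U)] R'), P y R → P y R' := by
    intro y R R' _ _ _ _ π h b hb
    have := congrArg (π.toLinearMap.lTensor Γ(X, W y)) (h b hb)
    simpa using this
  -- the ideals agree on overlaps
  have hLI : ∀ k : κ, L k.1 = I.map (algebraMap Γ(S, U) (C k)) := by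
    intro k
    refine le_antisymm ?_ (Ideal.map_le_iff_le_comap.2 (iInf_le _ k))
    refine IdealDescFpqc.le_map_iInf_comap C (C k) (fun i => L i.1) (L k.1) fun i => ?_
    let K : Ideal (C k ⊗[Γ(S, U)] C i) := (L i.1).map
      (Algebra.TensorProduct.includeRight : C i →ₐ[Γ(S, U)] C k ⊗[Γ(S, U)] C i).toRingHom
    let σi : C i →ₐ[Γ(S, U)] (C k ⊗[Γ(S, U)] C i) ⧸ K :=
      (Ideal.Quotient.mkₐ Γ(S, U) K).comp Algebra.TensorProduct.includeRight
    let σk : C k →ₐ[Γ(S, U)] (C k ⊗[Γ(S, U)] C i) ⧸ K :=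
      (Ideal.Quotient.mkₐ Γ(S, U) K).comp Algebra.TensorProduct.includeLeft
    have hPi : P i.1 ((C k ⊗[Γ(S, U)] C i) ⧸ K) := (hL' i.1 _ σi).1 fun b hb =>
      Ideal.Quotient.eq_zero_iff_mem.2 (Ideal.mem_map_of_mem _ hb)
    have hall := (key₁ _).1 (key₂ _ i.1 σi hPi)
    have hk := (hL' k.1 _ σk).2 (hall k.1)
    refine Ideal.map_le_iff_le_comap.2 fun b hb => ?_
    exact (Ideal.Quotient.eq_zero_iff_mem (I := K)).1 (hk hb)
  refine ⟨I, fun hj => ?_, fun {R} α => ?_⟩
  · have hfg : ∀ k : κ, ∃ F : Finset Γ(S, U), (F : Set Γ(S, U)) ⊆ I ∧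
        I.map (algebraMap Γ(S, U) (C k)) ≤ (Ideal.span (F : Set Γ(S, U))).map (algebraMap Γ(S, U) (C k)) := by
      intro k
      have h1 : (Ideal.span (algebraMap Γ(S, U) (C k) '' (I : Set Γ(S, U)))).FG :=
        show (I.map (algebraMap Γ(S, U) (C k))).FG from
          hLI k ▸ hLfg k.1 (fg_of_factors j _ _ (hJ k.1))
      obtain ⟨G, hG, hG'⟩ := (Submodule.fg_span_iff_fg_span_finset_subset _).1 h1
      choose a ha ha' using fun g : G => hG g.2
      refine ⟨Finset.univ.image a, fun x h => ?_, ?_⟩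
      · obtain ⟨g, -, rfl⟩ := Finset.mem_image.1 h
        exact ha g
      · show Ideal.span (algebraMap Γ(S, U) (C k) '' (I : Set Γ(S, U))) ≤ _
        refine hG'.le.trans (Submodule.span_le.2 fun g hg => ?_)
        let g' : G := ⟨g, hg⟩
        have := Ideal.mem_map_of_mem (algebraMap Γ(S, U) (C k))
          (Ideal.subset_span (Finset.mem_coe.2 (Finset.mem_image_of_mem a (Finset.mem_univ g'))) :
            a g' ∈ Ideal.span ((Finset.univ.image a : Finset Γ(S, U)) : Set Γ(S, U)))
        rwa [ha'] at this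
    choose F hF hF' using hfg
    refine ⟨Finset.univ.biUnion F, le_antisymm (Submodule.span_le.2 fun a ha => ?_) ?_⟩
    · obtain ⟨k, -, ha⟩ := Finset.mem_biUnion.1 ha
      exact hF k ha
    · refine IdealDescFpqc.le_of_map_le C hsurj fun k => (hF' k).trans (Ideal.map_mono ?_)
      exact Ideal.span_mono fun a ha => Finset.mem_coe.2
        (Finset.mem_biUnion.2 ⟨k, Finset.mem_univ k, ha⟩)
  · letI : Algebra Γ(S, U) R := α.hom.toAlgebra
    show EssFree.FactorsThrough f j (Spec (CommRingCat.of R))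
      (Spec.map (CommRingCat.ofHom (algebraMap Γ(S, U) R)) ≫ U.2.fromSpec) ↔ _
    let σ : ∀ k : κ, C k →ₐ[Γ(S, U)] R ⊗[Γ(S, U)] C k := fun k => Algebra.TensorProduct.includeRight
    constructor
    · intro h a ha
      refine eq_zero_of_forall_tmul C hsurj (show R from α.hom a) fun k => ?_
      have h1 : L k.1 ≤ RingHom.ker (σ k) := (hL' k.1 _ (σ k)).2
        (hmono k.1 Algebra.TensorProduct.includeLeft ((key₁ R).1 h k.1))
      have h2 : σ k (algebraMap Γ(S, U) (C k) a) = 0 := h1 (Ideal.mem_iInf.1 ha k)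
      rw [AlgHom.commutes] at h2
      exact h2
    · intro h
      refine (key₁ R).2 fun y b hb => eq_zero_of_forall_tmul C hsurj _ fun k => ?_
      have hker : L k.1 ≤ RingHom.ker (σ k) := by
        rw [hLI k, Ideal.map_le_iff_le_comap]
        intro a ha
        show σ k (algebraMap Γ(S, U) (C k) a) = 0
        rw [AlgHom.commutes]
        show algebraMap Γ(S, U) R a ⊗ₜ (1 : C k) = 0
        rw [show algebraMap Γ(S, U) R a = 0 from h ha, TensorProduct.zero_tmul]
      have hP := (hL' k.1 _ (σ k)).1 hker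
      have hall := (key₁ _).1 (key₂ _ k.1 (σ k) hP)
      have := congrArg (TensorProduct.assoc Γ(S, U) Γ(X, W y) R (C k)).symm (hall y b hb)
      rw [map_zero, Algebra.TensorProduct.one_def, TensorProduct.assoc_symm_tmul] at this
      exact this

/-- **The locus of the base over which `Y` contains `X`** for `X` smooth with geometrically
irreducible fibres and `Y` closed in `X`. -/
theorem exists_closed_locus :
    ∃ (T : Scheme.{u}) (t : T ⟶ S), IsClosedImmersion t ∧
      (∀ (S' : Scheme.{u}) (g : S' ⟶ S),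
        (∃ g' : S' ⟶ T, g' ≫ t = g) ↔ EssFree.FactorsThrough f j S' g) ∧
      (LocallyOfFinitePresentation j → LocallyOfFinitePresentation t) := by
  obtain ⟨T, t, ht, hT⟩ := EssFree.exists_closed_of_local (EssFree.FactorsThrough f j)
    (EssFree.factorsThrough_comp f j) (EssFree.factorsThrough_of_local f j)
    (fun U => (exists_ideal f j U).imp fun I h => h.2)
  refine ⟨T, t, ht, fun S' g => hT g, fun hj => locallyOfFinitePresentation_of_factors t fun U => ?_⟩
  obtain ⟨I, hIfg, hI⟩ := exists_ideal f j U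
  exact ⟨I, hIfg hj, fun α => (hT _).trans (hI α)⟩

end GrothLib.SecLocus
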