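import Mathlib
import Groth.Agent.Lib.Flatness.Criterion
import Groth.Agent.Lib.FibreFlat.OpenNoetherian
import Groth.Agent.Lib.MultLocal.FlatClosedStage

/-!
# An algebra which agrees with the base on all infinitesimal neighbourhoods of a closed subscheme is
flat near it
-/

universe u

open TensorProduct

namespace GrothLib.SecLocus

variable {B C : Type u} [CommRing B] [CommRing C] [Algebra B C]

/-- Surjectivity modulo an ideal gives surjectivity modulo its powers. -/
theorem exists_sub_mem_pow (I : Ideal B)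
    (hsurj : ∀ c : C, ∃ b, c - algebraMap B C b ∈ I.map (algebraMap B C)) (n : ℕ) (c : C) :
    ∃ b, c - algebraMap B C b ∈ (I ^ n).map (algebraMap B C) := by
  induction n with
  | zero => exact ⟨0, by simp [Ideal.map_top]⟩
  | succ n ih =>
    obtain ⟨b, hb⟩ := ih
    have key : ∀ x ∈ (I ^ n).map (algebraMap B C),
        ∃ b', x - algebraMap B C b' ∈ (I ^ (n + 1)).map (algebraMap B C) := by
      intro x hx
      induction hx using Submodule.span_induction with
      | mem y hy =>
        obtain ⟨i, hi, rfl⟩ := hy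
        exact ⟨i, by simp⟩
      | zero => exact ⟨0, by simp⟩
      | add x y hx' _ hx hy =>
        obtain ⟨b₁, h₁⟩ := hx
        obtain ⟨b₂, h₂⟩ := hy
        refine ⟨b₁ + b₂, ?_⟩
        rw [map_add, add_sub_add_comm]
        exact add_mem h₁ h₂
      | smul r x hx' hx =>
        obtain ⟨b₁, h₁⟩ := hx
        obtain ⟨b₂, h₂⟩ := hsurj r
        refine ⟨b₂ * b₁, ?_⟩
        rw [smul_eq_mul, map_mul, show r * x - algebraMap B C b₂ * algebraMap B C b₁ =
          (r - algebraMap B C b₂) * x + algebraMap B C b₂ * (x - algebraMap B C b₁) by ring]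
        refine add_mem ?_ (Ideal.mul_mem_left _ _ h₁)
        rw [pow_succ', Ideal.map_mul]
        exact Ideal.mul_mem_mul h₂ hx'
    obtain ⟨b', hb'⟩ := key _ hb
    refine ⟨b + b', ?_⟩
    rw [map_add, ← sub_sub]
    exact hb'

/-- An algebra of finite type over a noetherian ring which agrees with it on all infinitesimal
neighbourhoods of a closed subscheme is flat on an open containing that subscheme. -/
theorem exists_flat_nhd [IsNoetherianRing B] [Algebra.FiniteType B C] (I : Ideal B)
    (hsurj : ∀ c : C, ∃ b, c - algebraMap B C b ∈ I.map (algebraMap B C))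
    (hψ : ∀ n, Nonempty (C →ₐ[B] B ⧸ I ^ n)) :
    ∃ h : C, h - 1 ∈ I.map (algebraMap B C) ∧ Module.Flat B (Localization.Away h) := by
  classical
  have : IsNoetherianRing C := Algebra.FiniteType.isNoetherianRing B C
  let IC := I.map (algebraMap B C)
  let M : Submonoid C :=
    { carrier := {x | x - 1 ∈ IC}
      one_mem' := by simp
      mul_mem' := fun {x y} hx hy => by
        show x * y - 1 ∈ IC
        rw [show x * y - 1 = (x - 1) * y + (y - 1) by ring]
        exact add_mem (Ideal.mul_mem_right _ _ hx) hy }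
  let S := Localization M
  have : IsNoetherianRing S := IsLocalization.isNoetherianRing M S inferInstance
  have hjac : I.map (algebraMap B S) ≤ Ideal.jacobson ⊥ := by
    rw [IsScalarTower.algebraMap_eq B C S, ← Ideal.map_map]
    intro z hz
    rw [Ideal.mem_jacobson_bot]
    intro y
    obtain ⟨⟨⟨a, ha⟩, m₁⟩, rfl⟩ : ∃ p : IC × M, z = IsLocalization.mk' S (p.1 : C) p.2 := by
      obtain ⟨p, hp⟩ := (IsLocalization.mem_map_algebraMap_iff M S).1 hz
      exact ⟨p, IsLocalization.eq_mk'_iff_mul_eq.2 hp⟩
    obtain ⟨c, m₂, rfl⟩ := IsLocalization.exists_mk'_eq M y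
    have h1 : IsLocalization.mk' S a m₁ * IsLocalization.mk' S c m₂ + 1 =
        IsLocalization.mk' S (a * c + ((m₁ * m₂ : M) : C)) (m₁ * m₂) := by
      rw [← IsLocalization.mk'_mul, IsLocalization.eq_mk'_iff_mul_eq, add_mul, one_mul,
        IsLocalization.mk'_spec, map_add]
    rw [h1]
    have h2 : a * c + ((m₁ * m₂ : M) : C) ∈ M := by
      show _ - 1 ∈ IC
      rw [add_sub_assoc]
      exact add_mem (Ideal.mul_mem_right _ _ ha) (m₁ * m₂).2
    exact isUnit_of_mul_isUnit_left (y := algebraMap C S ((m₁ * m₂ : M) : C)) (by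
      rw [IsLocalization.mk'_spec]
      exact IsLocalization.map_units S ⟨_, h2⟩)
  have hflatS : Module.Flat B S := by
    refine Flatness.flat_of_forall_pow (S := S) I hjac ?_
    intro n A A' _ _ _ _ f hA hA' hf
    obtain ⟨ψ⟩ := hψ n
    have hψI : ∀ x ∈ (I ^ n).map (algebraMap B C), ψ x = 0 := fun x hx => by
      have hle : (I ^ n).map (algebraMap B C) ≤ RingHom.ker ψ :=
        Ideal.map_le_iff_le_comap.2 (fun i hi => show ψ (algebraMap B C i) = 0 by
          rw [ψ.commutes]; exact Ideal.Quotient.eq_zero_iff_mem.2 hi)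
      exact hle hx
    have hψM : ∀ m : M, IsUnit (ψ m) := fun m => by
      have h1 : IC ≤ (I.map (Ideal.Quotient.mk (I ^ n))).comap ψ :=
        Ideal.map_le_iff_le_comap.2 fun i hi => show ψ (algebraMap B C i) ∈ _ by
          rw [ψ.commutes]; exact Ideal.mem_map_of_mem _ hi
      have hnil : IsNilpotent (ψ ((m : C) - 1)) := by
        refine ⟨n, ?_⟩
        have h3 := Ideal.pow_mem_pow (show ψ ((m : C) - 1) ∈ I.map (Ideal.Quotient.mk (I ^ n)) from h1 m.2) n
        rw [← Ideal.map_pow, Ideal.map_quotient_self] at h3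
        exact h3
      have := hnil.isUnit_add_one
      rwa [map_sub, map_one, sub_add_cancel] at this
    let ψS : S →ₐ[B] B ⧸ I ^ n := IsLocalization.liftAlgHom (M := M) (f := ψ) hψM
    have hψS' : ∀ c, ψS (algebraMap C S c) = ψ c := fun c => IsLocalization.lift_eq _ c
    have hψS : ∀ s : S, ∀ b, Ideal.Quotient.mk (I ^ n) b = ψS s →
        s - algebraMap B S b ∈ (I ^ n).map (algebraMap B S) := by
      intro s b hb
      obtain ⟨c, m, rfl⟩ := IsLocalization.exists_mk'_eq M s
      obtain ⟨b', hb'⟩ := exists_sub_mem_pow I hsurj n (c - algebraMap B C b * (m : C))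
      have h1 : ψ (c - algebraMap B C b * (m : C)) = 0 := by
        have h2 : ψS (algebraMap C S c) = ψS (IsLocalization.mk' S c m) * ψS (algebraMap C S m) := by
          rw [← map_mul, IsLocalization.mk'_spec]
        rw [hψS', hψS'] at h2
        rw [map_sub, map_mul, ψ.commutes, Ideal.Quotient.algebraMap_eq, hb, ← h2, sub_self]
      have h3 : b' ∈ I ^ n := by
        have h4 := hψI _ hb'
        rw [map_sub, h1, ψ.commutes, zero_sub, neg_eq_zero] at h4
        exact Ideal.Quotient.eq_zero_iff_mem.1 h4
      have h5 : c - algebraMap B C b * (m : C) ∈ (I ^ n).map (algebraMap B C) := by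
        simpa using add_mem hb' (Ideal.mem_map_of_mem (algebraMap B C) h3)
      have h6 := Ideal.mem_map_of_mem (algebraMap C S) h5
      rw [Ideal.map_map, ← IsScalarTower.algebraMap_eq, map_sub, map_mul,
        ← IsScalarTower.algebraMap_apply] at h6
      have h7 : (IsLocalization.mk' S c m - algebraMap B S b) * algebraMap C S m ∈
          (I ^ n).map (algebraMap B S) := by
        rwa [sub_mul, IsLocalization.mk'_spec]
      exact ((Ideal.mul_unit_mem_iff_mem _ (IsLocalization.map_units S m)).1 h7)
    letI : Module (B ⧸ I ^ n) A := hA.module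
    letI : Module (B ⧸ I ^ n) A' := hA'.module
    haveI : IsScalarTower B (B ⧸ I ^ n) A := hA.isScalarTower
    haveI : IsScalarTower B (B ⧸ I ^ n) A' := hA'.isScalarTower
    let ε : S ⊗[B] A →ₗ[B] A := TensorProduct.lift
      ((Algebra.lsmul B B A : (B ⧸ I ^ n) →ₐ[B] Module.End B A).toLinearMap ∘ₗ ψS.toLinearMap)
    have hε : ∀ (s : S) (a : A), ε (s ⊗ₜ a) = ψS s • a := fun _ _ => rfl
    have hzero : ∀ (i : S) (a : A), i ∈ (I ^ n).map (algebraMap B S) → i ⊗ₜ[B] a = 0 := by
      intro i a hi
      induction hi using Submodule.span_induction with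
      | mem y hy =>
        obtain ⟨b, hb, rfl⟩ := hy
        rw [Algebra.algebraMap_eq_smul_one, TensorProduct.smul_tmul, @hA a ⟨b, hb⟩,
          TensorProduct.tmul_zero]
      | zero => exact TensorProduct.zero_tmul _ _
      | add x y _ _ hx hy => rw [TensorProduct.add_tmul, hx, hy, add_zero]
      | smul r x _ hx =>
        have := congrArg (LinearMap.rTensor A (LinearMap.mulLeft B r)) hx
        simpa using this
    have hone : ∀ z : S ⊗[B] A, (1 : S) ⊗ₜ[B] ε z = z := by
      intro z
      induction z using TensorProduct.induction_on with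
      | zero => simp
      | add x y hx hy => rw [map_add, TensorProduct.tmul_add, hx, hy]
      | tmul s a =>
        obtain ⟨b, hb⟩ := Ideal.Quotient.mk_surjective (ψS s)
        rw [hε, ← hb, ← Ideal.Quotient.algebraMap_eq, algebraMap_smul, ← TensorProduct.smul_tmul,
          ← Algebra.algebraMap_eq_smul_one, eq_comm, ← sub_eq_zero, ← TensorProduct.sub_tmul]
        exact hzero _ _ (hψS s b hb)
    have hnat : ∀ z, f (ε z) = (TensorProduct.lift
        ((Algebra.lsmul B B A' : (B ⧸ I ^ n) →ₐ[B] Module.End B A').toLinearMap ∘ₗ ψS.toLinearMap))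
          (f.lTensor S z) := by
      intro z
      induction z using TensorProduct.induction_on with
      | zero => simp
      | add x y hx hy => simp only [map_add, hx, hy]
      | tmul s a =>
        obtain ⟨b, hb⟩ := Ideal.Quotient.mk_surjective (ψS s)
        show f (ψS s • a) = ψS s • f a
        rw [← hb, ← Ideal.Quotient.algebraMap_eq, algebraMap_smul, algebraMap_smul, map_smul]
    rw [injective_iff_map_eq_zero]
    intro z hz
    rw [← hone z, show ε z = 0 from hf (by rw [map_zero, hnat z, hz, map_zero]),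
      TensorProduct.tmul_zero]
  let U := {q : PrimeSpectrum C | Module.Flat B (LocalizedModule q.asIdeal.primeCompl C)}
  have hU : IsOpen U := FibreFlat.isOpen_flat_locus_noetherian
  have hVU : PrimeSpectrum.zeroLocus (IC : Set C) ⊆ U := by
    intro q hq
    have hle : M ≤ q.asIdeal.primeCompl := fun x hx hxq => q.isPrime.one_notMem (by
      have := sub_mem hxq (hq (show x - 1 ∈ IC from hx))
      rwa [sub_sub_cancel] at this)
    let Cq := Localization.AtPrime q.asIdeal
    letI : Algebra S Cq := IsLocalization.localizationAlgebraOfSubmonoidLe S Cq M q.asIdeal.primeCompl hle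
    haveI : IsScalarTower C S Cq :=
      IsLocalization.localization_isScalarTower_of_submonoid_le S Cq M q.asIdeal.primeCompl hle
    haveI : IsScalarTower B S Cq := IsScalarTower.of_algebraMap_eq fun b => by
      rw [IsScalarTower.algebraMap_apply B C S, ← IsScalarTower.algebraMap_apply C S Cq,
        ← IsScalarTower.algebraMap_apply]
    have := IsLocalization.isLocalization_of_submonoid_le S Cq M q.asIdeal.primeCompl hle
    haveI : Module.Flat S Cq := IsLocalization.flat Cq (q.asIdeal.primeCompl.map (algebraMap C S))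
    exact (MultLocal.flat_localizedModule_iff q.asIdeal).2 (Module.Flat.trans B S Cq)
  obtain ⟨T, hT⟩ := (PrimeSpectrum.isOpen_iff U).1 hU
  obtain ⟨𝔞, h𝔞⟩ : ∃ 𝔞 : Ideal C, Uᶜ = PrimeSpectrum.zeroLocus (𝔞 : Set C) :=
    ⟨Ideal.span T, by rw [hT, PrimeSpectrum.zeroLocus_span]⟩
  have hsup : 𝔞 ⊔ IC = ⊤ := by
    rw [← PrimeSpectrum.zeroLocus_empty_iff_eq_top, PrimeSpectrum.zeroLocus_sup, ← h𝔞]
    exact Set.eq_empty_of_forall_notMem fun q hq => hq.1 (hVU hq.2)
  obtain ⟨h, hh, i, hi, hhi⟩ := Submodule.mem_sup.1 (hsup ▸ (Submodule.mem_top : (1 : C) ∈ ⊤))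
  refine ⟨h, by rw [← hhi, sub_add_cancel_left]; exact neg_mem hi, ?_⟩
  refine Module.flat_of_isLocalized_maximal (R := B) (S := Localization.Away h) (M := Localization.Away h)
    (fun P _ => Localization.AtPrime P) (fun P _ => Algebra.linearMap _ _) ?_
  intro P hP
  let Q : PrimeSpectrum C := ⟨P.comap (algebraMap C (Localization.Away h)), inferInstance⟩
  have hQ : Q ∈ U := by
    by_contra hQ
    exact hP.ne_top (Ideal.eq_top_of_isUnit_mem _
      (show algebraMap C (Localization.Away h) h ∈ P from (h𝔞.le hQ) hh)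
      (IsLocalization.Away.algebraMap_isUnit h))
  have := IsLocalization.isLocalization_isLocalization_atPrime_isLocalization (Submonoid.powers h)
    (Localization.AtPrime P) P
  have hflat : Module.Flat B (Localization.AtPrime Q.asIdeal) :=
    (MultLocal.flat_localizedModule_iff Q.asIdeal).1 hQ
  exact Module.Flat.of_linearEquiv
    (((IsLocalization.algEquiv Q.asIdeal.primeCompl (Localization.AtPrime Q.asIdeal)
      (Localization.AtPrime P)).restrictScalars B).symm.toLinearEquiv)

variable (B'' : Type u) [CommRing B''] [Algebra B B'']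

/-- Flatness of a basic open of an algebra is stable under base change. -/
theorem flat_away_baseChange (h : C) [Module.Flat B (Localization.Away h)] :
    Module.Flat B'' (Localization.Away ((1 : B'') ⊗ₜ[B] h)) := by
  let C'' := B'' ⊗[B] C
  let N := Localization.Away h
  let L := Localization.Away ((1 : B'') ⊗ₜ[B] h : C'')
  let k : C →ₐ[B] L := (IsScalarTower.toAlgHom B C'' L).comp Algebra.TensorProduct.includeRight
  have hk : ∀ y : Submonoid.powers h, IsUnit (k y) := by
    rintro ⟨_, n, rfl⟩
    rw [map_pow]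
    exact (IsLocalization.Away.algebraMap_isUnit ((1 : B'') ⊗ₜ[B] h : C'')).pow n
  let k' : N →ₐ[B] L := IsLocalization.liftAlgHom (M := Submonoid.powers h) (f := k) hk
  let φ : B'' ⊗[B] N →ₐ[B''] L :=
    Algebra.TensorProduct.lift (Algebra.ofId B'' L) k' fun _ _ => Commute.all _ _
  let m : C'' →ₐ[B''] B'' ⊗[B] N :=
    Algebra.TensorProduct.map (AlgHom.id B'' B'') (IsScalarTower.toAlgHom B C N)
  have hm : ∀ y : Submonoid.powers ((1 : B'') ⊗ₜ[B] h : C''), IsUnit (m y) := by
    rintro ⟨_, n, rfl⟩
    rw [map_pow]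
    refine IsUnit.pow n ?_
    show IsUnit ((1 : B'') ⊗ₜ[B] algebraMap C N h)
    exact (IsLocalization.Away.algebraMap_isUnit h).map
      (Algebra.TensorProduct.includeRight : N →ₐ[B] B'' ⊗[B] N)
  let ψ : L →ₐ[B''] B'' ⊗[B] N :=
    IsLocalization.liftAlgHom (M := Submonoid.powers ((1 : B'') ⊗ₜ[B] h : C'')) (f := m) hm
  have hk' : ∀ c, k' (algebraMap C N c) = algebraMap C'' L ((1 : B'') ⊗ₜ c) := fun c =>
    IsLocalization.lift_eq _ c
  have hψ : ∀ c, ψ (algebraMap C'' L c) = m c := fun c => IsLocalization.lift_eq _ c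
  have h1 : φ.comp ψ = AlgHom.id B'' L := by
    refine IsLocalization.algHom_ext (Submonoid.powers ((1 : B'') ⊗ₜ[B] h : C'')) ?_
    refine Algebra.TensorProduct.ext' fun a c => ?_
    show φ (ψ (algebraMap C'' L (a ⊗ₜ c))) = algebraMap C'' L (a ⊗ₜ c)
    rw [hψ]
    show φ (a ⊗ₜ algebraMap C N c) = _
    rw [Algebra.TensorProduct.lift_tmul, hk', Algebra.ofId_apply,
      IsScalarTower.algebraMap_apply B'' C'' L, ← map_mul, Algebra.TensorProduct.algebraMap_apply,
      Algebra.algebraMap_self, RingHom.id_apply, Algebra.TensorProduct.tmul_mul_tmul, mul_one, one_mul]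
  have h2 : ψ.comp φ = AlgHom.id B'' (B'' ⊗[B] N) := by
    refine Algebra.TensorProduct.ext (Subsingleton.elim _ _)
      (IsLocalization.algHom_ext (Submonoid.powers h) (AlgHom.ext fun c => ?_))
    show ψ (φ ((1 : B'') ⊗ₜ algebraMap C N c)) = (1 : B'') ⊗ₜ algebraMap C N c
    rw [Algebra.TensorProduct.lift_tmul, map_one, one_mul, hk', hψ]
    rfl
  exact Module.Flat.of_linearEquiv (AlgEquiv.ofAlgHom ψ φ h2 h1).toLinearEquiv

end GrothLib.SecLocus
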