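import Mathlib
import Groth.Agent.Lib.SecLocus.Nbhd
import Groth.Agent.Lib.SmoothSection.Coords
import Groth.Agent.Lib.SecLocus.FlatNhd

/-!
# The locus where a monomorphism of finite presentation into a smooth algebra is an isomorphism near
a section
-/

universe u

open TensorProduct

namespace GrothLib.SecLocus

/-- The map to a base change along an injective map of rings is injective on flat modules. -/
theorem injective_of_isBaseChange {A R M₀ M : Type u} [CommRing A] [CommRing R] [Algebra A R]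
    (hinj : Function.Injective (algebraMap A R)) [AddCommGroup M₀] [Module A M₀] [Module.Flat A M₀]
    [AddCommGroup M] [Module A M] [Module R M] [IsScalarTower A R M] {β : M₀ →ₗ[A] M}
    (hβ : IsBaseChange R β) : Function.Injective β := by
  intro a b hab
  apply (TensorProduct.lid A M₀).symm.injective
  apply Module.Flat.rTensor_preserves_injective_linearMap (M := M₀) (Algebra.linearMap A R) hinj
  apply hβ.equiv.injective
  simpa [IsBaseChange.equiv_tmul] using hab

section Homs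

variable {B C M : Type u} [CommRing B] [CommRing C] [CommRing M] [Algebra B C] {m : ℕ}

/-- Homomorphisms out of an algebra given by generators and relations. -/
theorem exists_hom_of_eval (π : MvPolynomial (Fin m) B →ₐ[B] C) (hπ : Function.Surjective π)
    {G : Set (MvPolynomial (Fin m) B)} (hG : RingHom.ker π = Ideal.span G) (μ : B →+* M)
    (z : Fin m → M) (hz : ∀ g ∈ G, MvPolynomial.eval₂ μ z g = 0) :
    ∃ ψ : C →+* M, ψ.comp (algebraMap B C) = μ ∧ ∀ j, ψ (π (MvPolynomial.X j)) = z j := by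
  let ev : MvPolynomial (Fin m) B →+* M := MvPolynomial.eval₂Hom μ z
  have hker : RingHom.ker π.toRingHom ≤ RingHom.ker ev := by
    rw [show RingHom.ker π.toRingHom = RingHom.ker π from rfl, hG, Ideal.span_le]
    exact fun g hg => hz g hg
  refine ⟨π.toRingHom.liftOfSurjective hπ ⟨ev, hker⟩, RingHom.ext fun b => ?_, fun j => ?_⟩
  · rw [RingHom.comp_apply, show algebraMap B C b = π.toRingHom (MvPolynomial.C b) from
      (π.commutes b).symm, RingHom.liftOfRightInverse_comp_apply]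
    exact MvPolynomial.eval₂_C _ _ _
  · rw [show π (MvPolynomial.X j) = π.toRingHom (MvPolynomial.X j) from rfl,
      RingHom.liftOfRightInverse_comp_apply]
    exact MvPolynomial.eval₂_X _ _ _

/-- A homomorphism out of an algebra given by generators and relations kills the relations. -/
theorem eval_eq_zero (π : MvPolynomial (Fin m) B →ₐ[B] C) {G : Set (MvPolynomial (Fin m) B)}
    (hG : RingHom.ker π = Ideal.span G) (ψ : C →+* M) (g : MvPolynomial (Fin m) B) (hg : g ∈ G) :
    MvPolynomial.eval₂ (ψ.comp (algebraMap B C)) (fun j => ψ (π (MvPolynomial.X j))) g = 0 := by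
  have h : MvPolynomial.eval₂Hom (ψ.comp (algebraMap B C)) (fun j => ψ (π (MvPolynomial.X j))) =
      ψ.comp π.toRingHom := MvPolynomial.ringHom_ext (fun b => by simp) fun j => by simp
  show MvPolynomial.eval₂Hom _ _ g = 0
  rw [h, RingHom.comp_apply, show π.toRingHom g = 0 from hG.ge (Ideal.subset_span hg), map_zero]

/-- Ring homomorphisms out of such an algebra agree if they agree on generators. -/
theorem hom_ext_of_generators (π : MvPolynomial (Fin m) B →ₐ[B] C) (hπ : Function.Surjective π)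
    {ψ ψ' : C →+* M} (h : ψ.comp (algebraMap B C) = ψ'.comp (algebraMap B C))
    (hX : ∀ j, ψ (π (MvPolynomial.X j)) = ψ' (π (MvPolynomial.X j))) : ψ = ψ' := by
  refine RingHom.ext fun c => ?_
  obtain ⟨p, rfl⟩ := hπ c
  refine RingHom.congr_fun (MvPolynomial.ringHom_ext (f := ψ.comp π.toRingHom)
    (g := ψ'.comp π.toRingHom) (fun b => ?_) fun j => hX j) p
  show ψ (π (MvPolynomial.C b)) = ψ' (π (MvPolynomial.C b))
  rw [← MvPolynomial.algebraMap_eq, π.commutes]
  exact RingHom.congr_fun h b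

end Homs

variable {A B : Type u} [CommRing A] [CommRing B] [Algebra A B] (e : B →ₐ[A] A)

/-- The base change of a retraction. -/
noncomputable def bcSec (R : Type u) [CommRing R] [Algebra A R] : R ⊗[A] B →ₐ[R] R :=
  Algebra.TensorProduct.lift (AlgHom.id R R) ((Algebra.ofId A R).comp e) fun _ _ => Commute.all _ _

@[simp] theorem bcSec_tmul (R : Type u) [CommRing R] [Algebra A R] (r : R) (b : B) :
    bcSec e R (r ⊗ₜ b) = r * algebraMap A R (e b) := by
  simp [bcSec, Algebra.ofId_apply]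

/-- A chart of finite presentation over a smooth algebra with a section descends to a finitely
generated subring, keeping the property that it is the base modulo the ideal of the section. -/
theorem exists_stage {C : Type u} [CommRing C] [Algebra A C] [Algebra B C] [IsScalarTower A B C]
    [Algebra.Smooth A B] [Algebra.FinitePresentation B C] (eC : C →ₐ[A] A)
    (hcomp : ∀ b, eC (algebraMap B C b) = e b)
    (hker : RingHom.ker eC ≤ (RingHom.ker e).map (algebraMap B C)) :
    ∃ (A₁ : Subalgebra ℤ A) (B₁ : Type u) (_ : CommRing B₁) (_ : Algebra A₁ B₁)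
      (φ₀ : B₁ →ₐ[A₁] B) (e₀ : B₁ →ₐ[A₁] A₁) (m : ℕ) (π : MvPolynomial (Fin m) B →ₐ[B] C)
      (G₁ : Set (MvPolynomial (Fin m) B₁)),
      IsNoetherianRing A₁ ∧ Algebra.Smooth A₁ B₁ ∧ IsBaseChange A φ₀.toLinearMap ∧
      (∀ b, e (φ₀ b) = algebraMap A₁ A (e₀ b)) ∧ Function.Surjective π ∧
      RingHom.ker π = Ideal.span (MvPolynomial.map φ₀.toRingHom '' G₁) ∧
      ∀ c : MvPolynomial (Fin m) B₁ ⧸ Ideal.span G₁, ∃ b,
        c - algebraMap B₁ _ b ∈ (RingHom.ker e₀).map
          (algebraMap B₁ (MvPolynomial (Fin m) B₁ ⧸ Ideal.span G₁)) := by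
  classical
  obtain ⟨m, π, hπ, hkerπ⟩ := Algebra.FinitePresentation.out (R := B) (A := C)
  obtain ⟨G, hG⟩ := hkerπ
  have hG' : RingHom.ker π = Ideal.span (G : Set (MvPolynomial (Fin m) B)) := hG.symm
  obtain ⟨Gi, hGi⟩ := SmoothSection.fg_ker e
  let a : Fin m → A := fun j => eC (π (MvPolynomial.X j))
  let T : Finset (MvPolynomial (Fin m) B) := G ∪ Gi.image MvPolynomial.C
  have hp : ∀ j, MvPolynomial.X j - MvPolynomial.C (algebraMap A B (a j)) ∈
      Submodule.span (MvPolynomial (Fin m) B) (T : Set (MvPolynomial (Fin m) B)) := fun j => by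
    have h1 : π (MvPolynomial.X j - MvPolynomial.C (algebraMap A B (a j))) ∈
        (RingHom.ker e).map (algebraMap B C) := hker (by
      rw [RingHom.mem_ker, map_sub, map_sub, ← MvPolynomial.algebraMap_eq, π.commutes, hcomp,
        AlgHom.commutes]
      exact sub_self _)
    have h2 : (RingHom.ker e).map (algebraMap B C) =
        ((RingHom.ker e).map (MvPolynomial.C : B →+* MvPolynomial (Fin m) B)).map π.toRingHom := by
      rw [Ideal.map_map]
      congr 1
      exact RingHom.ext fun b => (π.commutes b).symm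
    rw [h2] at h1
    have h3 : MvPolynomial.X j - MvPolynomial.C (algebraMap A B (a j)) ∈
        (((RingHom.ker e).map (MvPolynomial.C : B →+* MvPolynomial (Fin m) B)).map π.toRingHom).comap
          π.toRingHom := h1
    rw [Ideal.comap_map_of_surjective' π.toRingHom hπ, ← hG] at h3
    rw [Finset.coe_union, Finset.coe_image, Submodule.span_union]
    rw [← hGi, Ideal.map_span, sup_comm] at h3
    exact h3
  choose f hf using fun j => Submodule.mem_span_finset.1 (hp j)
  let s : Finset B := Gi ∪ (Finset.univ.image fun j => algebraMap A B (a j)) ∪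
    G.biUnion (fun g => g.coeffs) ∪ Finset.univ.biUnion (fun j => T.biUnion fun g => (f j g).coeffs)
  obtain ⟨A₁, B₁, _, _, φ₀, e₀, hA₁, hsm, hbc, he, hs⟩ := exists_model e s
  have := isNoetherianRing_of_fg hA₁
  have hφinj : Function.Injective φ₀ :=
    injective_of_isBaseChange (Subtype.val_injective : Function.Injective (algebraMap A₁ A)) hbc
  have hlift : ∀ p : MvPolynomial (Fin m) B, (p.coeffs : Set B) ⊆ s →
      ∃ p₁ : MvPolynomial (Fin m) B₁, MvPolynomial.map φ₀.toRingHom p₁ = p := fun p hp =>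
    MvPolynomial.mem_range_map_iff_coeffs_subset.2 (hp.trans hs)
  choose g₁ hg₁ using fun g : G => hlift g.1 fun b hb =>
    Finset.mem_union_left _ (Finset.mem_union_right _ (Finset.mem_biUnion.2 ⟨g.1, g.2, hb⟩))
  refine ⟨A₁, B₁, inferInstance, inferInstance, φ₀, e₀, m, π, Set.range g₁, isNoetherianRing_of_fg hA₁,
    hsm, hbc, he, hπ, ?_, ?_⟩
  · rw [hG', ← Set.range_comp]
    congr 1
    refine Set.ext fun p => ⟨fun hp => ⟨⟨p, hp⟩, hg₁ _⟩, ?_⟩
    rintro ⟨g, rfl⟩
    show MvPolynomial.map φ₀.toRingHom (g₁ g) ∈ _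
    rw [hg₁]
    exact g.2
  let π₁ : MvPolynomial (Fin m) B₁ →ₐ[B₁] MvPolynomial (Fin m) B₁ ⧸ Ideal.span (Set.range g₁) :=
    Ideal.Quotient.mkₐ B₁ _
  let C₁ := MvPolynomial (Fin m) B₁ ⧸ Ideal.span (Set.range g₁)
  have hπ₁ : Function.Surjective π₁ := Ideal.Quotient.mk_surjective
  let I₁ := RingHom.ker e₀
  let I₁C := I₁.map (algebraMap B₁ C₁)
  have he₀inj : ∀ b, e (φ₀ b) = 0 → b ∈ I₁ := fun b hb =>
    Subtype.val_injective ((he b).symm.trans hb)
  -- modulo the ideal of the section the algebra at the stage is the base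
  have hsurj : ∀ c : C₁, ∃ b, c - algebraMap B₁ C₁ b ∈ I₁C := by
    have hX : ∀ j, ∃ b, π₁ (MvPolynomial.X j) - algebraMap B₁ C₁ b ∈ I₁C := fun j => by
      have haj : algebraMap A B (a j) ∈ s := Finset.mem_union_left _ (Finset.mem_union_left _
        (Finset.mem_union_right _ (Finset.mem_image_of_mem _ (Finset.mem_univ j))))
      obtain ⟨ba, hba⟩ := hs (Finset.mem_coe.2 haj)
      have hgT : ∀ g : T, ∃ g' : MvPolynomial (Fin m) B₁, MvPolynomial.map φ₀.toRingHom g' = g.1 ∧
          π₁ g' ∈ I₁C := by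
        rintro ⟨g, hg⟩
        rcases Finset.mem_union.1 hg with hg | hg
        · refine ⟨g₁ ⟨g, hg⟩, hg₁ _, ?_⟩
          rw [show π₁ (g₁ ⟨g, hg⟩) = 0 from Ideal.Quotient.eq_zero_iff_mem.2 (Ideal.subset_span ⟨_, rfl⟩)]
          exact zero_mem _
        · obtain ⟨i, hi, rfl⟩ := Finset.mem_image.1 hg
          obtain ⟨b, hb⟩ := hs (Finset.mem_coe.2 (Finset.mem_union_left _ (Finset.mem_union_left _
            (Finset.mem_union_left _ hi))))
          refine ⟨MvPolynomial.C b, by rw [MvPolynomial.map_C]; exact congrArg _ hb, ?_⟩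
          rw [← MvPolynomial.algebraMap_eq, π₁.commutes]
          refine Ideal.mem_map_of_mem _ (he₀inj b ?_)
          rw [hb]
          exact hGi.le (Submodule.subset_span hi)
      choose gT hgT hgT' using hgT
      choose f₁ hf₁ using fun g : T => hlift (f j g.1) fun b hb => Finset.mem_union_right _
        (Finset.mem_biUnion.2 ⟨j, Finset.mem_univ _, Finset.mem_biUnion.2 ⟨g.1, g.2, hb⟩⟩)
      refine ⟨ba, ?_⟩
      have heq : MvPolynomial.X j - MvPolynomial.C ba = ∑ g : T, f₁ g * gT g := by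
        apply MvPolynomial.map_injective φ₀.toRingHom hφinj
        rw [map_sub, MvPolynomial.map_X, MvPolynomial.map_C, map_sum,
          show φ₀.toRingHom ba = algebraMap A B (a j) from hba, ← (hf j).2, ← Finset.sum_attach T]
        exact Finset.sum_congr rfl fun g _ => by rw [map_mul, hf₁, hgT, smul_eq_mul]
      have h3 : π₁ (MvPolynomial.X j - MvPolynomial.C ba) ∈ I₁C := by
        rw [heq, map_sum]
        exact Ideal.sum_mem _ fun g _ => by rw [map_mul]; exact Ideal.mul_mem_left _ _ (hgT' g)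
      rwa [map_sub, ← MvPolynomial.algebraMap_eq, π₁.commutes] at h3
    intro c
    obtain ⟨p, rfl⟩ := hπ₁ c
    induction p using MvPolynomial.induction_on with
    | C b => exact ⟨b, by rw [← MvPolynomial.algebraMap_eq, π₁.commutes, sub_self]; exact zero_mem _⟩
    | add p q hp hq =>
      obtain ⟨b, hb⟩ := hp
      obtain ⟨b', hb'⟩ := hq
      refine ⟨b + b', ?_⟩
      rw [map_add, map_add, add_sub_add_comm]
      exact add_mem hb hb'
    | mul_X p j hp =>
      obtain ⟨b, hb⟩ := hp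
      obtain ⟨b', hb'⟩ := hX j
      refine ⟨b * b', ?_⟩
      rw [map_mul, map_mul, show π₁ p * π₁ (MvPolynomial.X j) - algebraMap B₁ C₁ b * algebraMap B₁ C₁ b' =
        (π₁ p - algebraMap B₁ C₁ b) * π₁ (MvPolynomial.X j) +
          algebraMap B₁ C₁ b * (π₁ (MvPolynomial.X j) - algebraMap B₁ C₁ b') by ring]
      exact add_mem (Ideal.mul_mem_right _ _ hb) (Ideal.mul_mem_left _ _ hb')
  exact hsurj

/-- The ideal of the base over which the stage is an isomorphism on all infinitesimal neighbourhoods of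
the section, and flatness near the section over it. -/
theorem exists_stage_ideal {A₁ B₁ C₁ : Type u} [CommRing A₁] [CommRing B₁] [CommRing C₁] [Algebra A₁ B₁]
    [Algebra B₁ C₁] [IsNoetherianRing A₁] [Algebra.Smooth A₁ B₁] [Algebra.FiniteType B₁ C₁]
    (e₀ : B₁ →ₐ[A₁] A₁)
    (hsurj : ∀ c : C₁, ∃ b, c - algebraMap B₁ C₁ b ∈ (RingHom.ker e₀).map (algebraMap B₁ C₁)) :
    ∃ 𝔞 : Ideal A₁,
      (∀ (R : Type u) [CommRing R] [Algebra A₁ R] (B' : Type u) [CommRing B'] [Algebra R B']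
        [Algebra A₁ B'] [IsScalarTower A₁ R B'] (φ : B₁ →ₐ[A₁] B') (e' : B' →ₐ[R] R),
        IsBaseChange R φ.toLinearMap → (∀ b, e' (φ b) = algebraMap A₁ R (e₀ b)) →
        (∀ n, ∃ ψ : C₁ →+* B' ⧸ RingHom.ker e' ^ n,
          ∀ b, ψ (algebraMap B₁ C₁ b) = Ideal.Quotient.mk _ (φ b)) →
        𝔞 ≤ RingHom.ker (algebraMap A₁ R)) ∧
      ∀ n, ∃ ψ : C₁ →+* ((A₁ ⧸ 𝔞) ⊗[A₁] B₁) ⧸ RingHom.ker (bcSec e₀ (A₁ ⧸ 𝔞)) ^ n,
        ∀ b, ψ (algebraMap B₁ C₁ b) = Ideal.Quotient.mk _ ((1 : A₁ ⧸ 𝔞) ⊗ₜ b) := by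
  classical
  let I₁ := RingHom.ker e₀
  let I₁C := I₁.map (algebraMap B₁ C₁)
  let J : ℕ → Ideal B₁ := fun n => ((I₁ ^ n).map (algebraMap B₁ C₁)).comap (algebraMap B₁ C₁)
  have : ∀ n, Module.Projective A₁ (B₁ ⧸ I₁ ^ n) := projective_quot_pow e₀
  choose c hc using fun n => EssFree.exists_coeff_ideal (A := A₁) (M := B₁ ⧸ I₁ ^ n)
    (Ideal.Quotient.mk _ '' (J n : Set B₁))
  have hmono : Monotone c := by
    intro i j hij
    have hj := (hc j (A₁ ⧸ c j)).2 (by rw [Ideal.Quotient.algebraMap_eq, Ideal.mk_ker])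
    have := (hc i (A₁ ⧸ c j)).1 (by
      rintro _ ⟨b, hb, rfl⟩
      have key : ∀ x ∈ (I₁ ^ i).map (algebraMap B₁ C₁),
          ∃ b' ∈ I₁ ^ i, x - algebraMap B₁ C₁ b' ∈ (I₁ ^ j).map (algebraMap B₁ C₁) := by
        intro x hx
        induction hx using Submodule.span_induction with
        | mem y hy =>
          obtain ⟨k, hk, rfl⟩ := hy
          exact ⟨k, hk, by simp⟩
        | zero => exact ⟨0, zero_mem _, by simp⟩
        | add x y _ _ hx hy =>
          obtain ⟨b₁, m₁, h₁⟩ := hx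
          obtain ⟨b₂, m₂, h₂⟩ := hy
          refine ⟨b₁ + b₂, add_mem m₁ m₂, ?_⟩
          rw [map_add, add_sub_add_comm]
          exact add_mem h₁ h₂
        | smul r x _ hx =>
          obtain ⟨b₁, m₁, h₁⟩ := hx
          obtain ⟨b₂, h₂⟩ := exists_sub_mem_pow I₁ hsurj j r
          refine ⟨b₂ * b₁, Ideal.mul_mem_left _ _ m₁, ?_⟩
          rw [smul_eq_mul, map_mul, show r * x - algebraMap B₁ C₁ b₂ * algebraMap B₁ C₁ b₁ =
            (r - algebraMap B₁ C₁ b₂) * algebraMap B₁ C₁ b₁ + r * (x - algebraMap B₁ C₁ b₁) by ring]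
          exact add_mem (Ideal.mul_mem_right _ _ h₂) (Ideal.mul_mem_left _ _ h₁)
      have hb₁ : algebraMap B₁ C₁ b ∈ (I₁ ^ i).map (algebraMap B₁ C₁) := hb
      obtain ⟨b', hb'i, hb'⟩ := key _ hb₁
      have hmem : b - b' ∈ J j := by
        show algebraMap B₁ C₁ (b - b') ∈ (I₁ ^ j).map (algebraMap B₁ C₁)
        rw [map_sub]
        exact hb'
      have := congrArg ((Ideal.Quotient.factorₐ A₁ (Ideal.pow_le_pow_right hij)).toLinearMap.rTensor
        (A₁ ⧸ c j)) (hj _ ⟨b - b', hmem, rfl⟩)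
      have h0 : Ideal.Quotient.mk (I₁ ^ i) b' = 0 := Ideal.Quotient.eq_zero_iff_mem.2 hb'i
      simpa [h0] using this)
    rwa [Ideal.Quotient.algebraMap_eq, Ideal.mk_ker] at this
  obtain ⟨n₀, hn₀⟩ := monotone_stabilizes_iff_noetherian.mpr (inferInstanceAs (IsNoetherian A₁ A₁)) ⟨c, hmono⟩
  have hle : ∀ n, c n ≤ c n₀ := fun n => (le_total n n₀).elim (fun h => hmono h) fun h => (hn₀ n h).ge
  -- vanishing of the ideals in a base change
  have key : ∀ (R : Type u) [CommRing R] [Algebra A₁ R] (B' : Type u) [CommRing B'] [Algebra R B']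
      [Algebra A₁ B'] [IsScalarTower A₁ R B'] (φ : B₁ →ₐ[A₁] B') (e' : B' →ₐ[R] R),
      IsBaseChange R φ.toLinearMap → (∀ b, e' (φ b) = algebraMap A₁ R (e₀ b)) → ∀ n,
        ((∀ b ∈ J n, Ideal.Quotient.mk (RingHom.ker e' ^ n) (φ b) = 0) ↔
          c n ≤ RingHom.ker (algebraMap A₁ R)) := by
    intro R _ _ B' _ _ _ _ φ e' hφ he' n
    rw [← hc n R]
    simp only [Set.forall_mem_image]
    refine forall₂_congr fun b _ => ?_
    rw [← LinearEquiv.map_eq_zero_iff ((TensorProduct.comm A₁ _ R).trans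
      ((isBaseChange_nbhdMap hφ he' n).equiv.restrictScalars A₁)),
      LinearEquiv.trans_apply, TensorProduct.comm_tmul, LinearEquiv.restrictScalars_apply,
      IsBaseChange.equiv_tmul, one_smul, nbhdMap_mk]
  -- homomorphisms at the stage from vanishing
  have hψ₁ : ∀ (M : Type u) [CommRing M] (μ : B₁ →+* M) (n : ℕ), (∀ b ∈ J n, μ b = 0) →
      ∃ ψ : C₁ →+* M, ψ.comp (algebraMap B₁ C₁) = μ := by
    intro M _ μ n hμ
    let χ : B₁ ⧸ J n →+* C₁ ⧸ (I₁ ^ n).map (algebraMap B₁ C₁) :=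
      Ideal.quotientMap _ (algebraMap B₁ C₁) le_rfl
    have hχ : Function.Bijective χ := ⟨Ideal.quotientMap_injective, fun z => by
      obtain ⟨z, rfl⟩ := Ideal.Quotient.mk_surjective z
      obtain ⟨b, hb⟩ := exists_sub_mem_pow I₁ hsurj n z
      exact ⟨Ideal.Quotient.mk _ b, (Ideal.Quotient.eq.2 hb).symm⟩⟩
    refine ⟨((Ideal.Quotient.lift (J n) μ hμ).comp (RingEquiv.ofBijective χ hχ).symm.toRingHom).comp
      (Ideal.Quotient.mk _), RingHom.ext fun b => ?_⟩
    show Ideal.Quotient.lift (J n) μ hμ ((RingEquiv.ofBijective χ hχ).symm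
      (Ideal.Quotient.mk _ (algebraMap B₁ C₁ b))) = μ b
    rw [show Ideal.Quotient.mk ((I₁ ^ n).map (algebraMap B₁ C₁)) (algebraMap B₁ C₁ b) =
      RingEquiv.ofBijective χ hχ (Ideal.Quotient.mk (J n) b) from rfl, RingEquiv.symm_apply_apply,
      Ideal.Quotient.lift_mk]
  refine ⟨c n₀, fun R _ _ B' _ _ _ _ φ e' hφ he' hψ => ?_, ?_⟩
  · refine (key R B' φ e' hφ he' n₀).1 fun b hb => ?_
    obtain ⟨ψ, hψ⟩ := hψ n₀
    have h0 : (I₁ ^ n₀).map (algebraMap B₁ C₁) ≤ RingHom.ker ψ :=
      Ideal.map_le_iff_le_comap.2 fun x hx => by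
        show ψ (algebraMap B₁ C₁ x) = 0
        rw [hψ, Ideal.Quotient.eq_zero_iff_mem]
        exact pow_le_comap hφ he' n₀ hx
    rw [← hψ]
    exact h0 hb
  intro n
  let 𝔞 := c n₀
  let inc : B₁ →ₐ[A₁] (A₁ ⧸ 𝔞) ⊗[A₁] B₁ := Algebra.TensorProduct.includeRight
  obtain ⟨ψ, hψ⟩ := hψ₁ _ ((Ideal.Quotient.mk (RingHom.ker (bcSec e₀ (A₁ ⧸ 𝔞)) ^ n)).comp inc.toRingHom) n
    ((key (A₁ ⧸ 𝔞) _ inc (bcSec e₀ (A₁ ⧸ 𝔞)) (TensorProduct.isBaseChange A₁ B₁ (A₁ ⧸ 𝔞))
      (fun b => by
        show bcSec e₀ (A₁ ⧸ 𝔞) (1 ⊗ₜ b) = _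
        rw [bcSec_tmul, one_mul])
      n).2 ((hle n).trans (by rw [Ideal.Quotient.algebraMap_eq, Ideal.mk_ker])))
  exact ⟨ψ, fun b => RingHom.congr_fun hψ b⟩

/-- Flatness near the preimage of a closed subscheme, at a base change of the stage. -/
theorem exists_flat_nhd_baseChange {B₁ C₁ B' : Type u} [CommRing B₁] [CommRing C₁] [Algebra B₁ C₁]
    [Algebra.FiniteType B₁ C₁] [CommRing B'] [Algebra B₁ B'] [IsNoetherianRing B'] (I₁ : Ideal B₁)
    (hsurj : ∀ c : C₁, ∃ b, c - algebraMap B₁ C₁ b ∈ I₁.map (algebraMap B₁ C₁)) (I' : Ideal B')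
    (hI : I₁ ≤ I'.comap (algebraMap B₁ B'))
    (hψ : ∀ n, ∃ ψ : C₁ →+* B' ⧸ I' ^ n,
      ∀ b, ψ (algebraMap B₁ C₁ b) = Ideal.Quotient.mk _ (algebraMap B₁ B' b)) :
    ∃ h : B' ⊗[B₁] C₁,
      h - 1 ∈ (I'.map (algebraMap B' (B' ⊗[B₁] C₁)) : Ideal (B' ⊗[B₁] C₁)) ∧
      Module.Flat B' (Localization.Away h) := by
  let I₁C := I₁.map (algebraMap B₁ C₁)
  let C' := B' ⊗[B₁] C₁
  have hI'C : ∀ x ∈ I₁C, ((1 : B') ⊗ₜ[B₁] x : C') ∈ I'.map (algebraMap B' C') := by
    have hle : I₁C ≤ (I'.map (algebraMap B' C')).comap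
        (Algebra.TensorProduct.includeRight : C₁ →ₐ[B₁] C') := Ideal.map_le_iff_le_comap.2 fun x hx => by
      show (Algebra.TensorProduct.includeRight : C₁ →ₐ[B₁] C') (algebraMap B₁ C₁ x) ∈
        I'.map (algebraMap B' C')
      rw [AlgHom.commutes, IsScalarTower.algebraMap_apply B₁ B' C']
      refine Ideal.mem_map_of_mem _ ?_
      exact hI hx
    exact fun x hx => hle hx
  obtain ⟨h, hh, hflat⟩ := exists_flat_nhd (B := B') (C := C') I' (fun z => by
      induction z using TensorProduct.induction_on with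
      | zero => exact ⟨0, by simp⟩
      | add x y hx hy =>
        obtain ⟨b, hb⟩ := hx
        obtain ⟨b', hb'⟩ := hy
        refine ⟨b + b', ?_⟩
        rw [map_add, add_sub_add_comm]
        exact add_mem hb hb'
      | tmul x y =>
        obtain ⟨b, hb⟩ := hsurj y
        refine ⟨x * algebraMap B₁ B' b, ?_⟩
        have h2 : (x ⊗ₜ[B₁] y : C') - algebraMap B' C' (x * algebraMap B₁ B' b) =
            algebraMap B' C' x * ((1 : B') ⊗ₜ[B₁] (y - algebraMap B₁ C₁ b)) := by
          rw [Algebra.TensorProduct.algebraMap_apply, Algebra.TensorProduct.algebraMap_apply,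
            Algebra.algebraMap_self, RingHom.id_apply, RingHom.id_apply,
            Algebra.TensorProduct.tmul_mul_tmul, mul_one, one_mul, TensorProduct.tmul_sub,
            Algebra.algebraMap_eq_smul_one (A := C₁) b, ← TensorProduct.smul_tmul, Algebra.smul_def,
            mul_comm x]
        rw [h2]
        exact Ideal.mul_mem_left _ _ (hI'C _ hb))
    (fun n => by
      obtain ⟨ψ, hψ⟩ := hψ n
      let ψ' : C₁ →ₐ[B₁] B' ⧸ I' ^ n := { ψ with commutes' := fun b => hψ b }
      exact ⟨Algebra.TensorProduct.lift (Algebra.ofId B' _) ψ' fun _ _ => Commute.all _ _⟩)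
  exact ⟨h, hh, hflat⟩

/-- Flatness of a localisation transported along an isomorphism of algebras. -/
theorem flat_away_of_ringEquiv {R Q T : Type u} [CommRing R] [CommRing Q] [CommRing T] [Algebra R Q]
    (f : R →+* T) (Θ : Q ≃+* T) (hΘ : ∀ x, Θ (algebraMap R Q x) = f x) (q : Q)
    (hq : Module.Flat R (Localization.Away q)) :
    ((algebraMap T (Localization.Away (Θ q))).comp f).Flat := by
  let Θ' : Localization.Away q ≃+* Localization.Away (Θ q) :=
    IsLocalization.ringEquivOfRingEquiv (M := Submonoid.powers q)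
      (T := Submonoid.powers (Θ q)) _ _ Θ (Submonoid.map_powers _ _)
  have heq : (algebraMap T (Localization.Away (Θ q))).comp f =
      Θ'.toRingHom.comp (algebraMap R (Localization.Away q)) := RingHom.ext fun x => by
    rw [RingHom.comp_apply, RingHom.comp_apply, IsScalarTower.algebraMap_apply R Q, ← hΘ x]
    exact (IsLocalization.map_eq (S := Localization.Away q) (M := Submonoid.powers q)
      (T := Submonoid.powers (Θ q)) (g := Θ.toRingHom)
      (Submonoid.le_comap_of_map_le _ (le_of_eq (Submonoid.map_powers _ _))) _).symm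
  rw [heq]
  exact RingHom.Flat.comp (RingHom.flat_algebraMap_iff.2 hq) (RingHom.Flat.of_bijective Θ'.bijective)

set_option maxHeartbeats 1000000 in
/-- Flatness near the section passes from the universal stage to every base change. -/
theorem exists_flat_transport {C : Type u} [CommRing C] [Algebra A C] [Algebra B C] [IsScalarTower A B C]
    (eC : C →ₐ[A] A) (hcomp : ∀ b, eC (algebraMap B C b) = e b)
    {B₁ : Type u} [CommRing B₁] (φ₀ : B₁ →+* B)
    {m : ℕ} (π : MvPolynomial (Fin m) B →ₐ[B] C) (hπ : Function.Surjective π)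
    (G₁ : Set (MvPolynomial (Fin m) B₁))
    (hG : RingHom.ker π = Ideal.span (MvPolynomial.map φ₀ '' G₁))
    {B' : Type u} [CommRing B'] [Algebra B₁ B'] (I' : Ideal B')
    {C₁ : Type u} [CommRing C₁] [Algebra B₁ C₁] (π₁ : MvPolynomial (Fin m) B₁ →ₐ[B₁] C₁)
    (hπ₁ : Function.Surjective π₁) (hG₁ : RingHom.ker π₁ = Ideal.span G₁) (h : B' ⊗[B₁] C₁)
    (hh : h - 1 ∈ (I'.map (algebraMap B' (B' ⊗[B₁] C₁)) : Ideal (B' ⊗[B₁] C₁)))
    (hflat : Module.Flat B' (Localization.Away h))
    (R : Type u) [CommRing R] [Algebra A R] (β : B' →+* R ⊗[A] B)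
    (hβ : ∀ b, β (algebraMap B₁ B' b) = (1 : R) ⊗ₜ φ₀ b) (hβI : ∀ x ∈ I', bcSec e R (β x) = 0) :
    ∃ h' : R ⊗[A] C, bcSec eC R h' = 1 ∧
      ((algebraMap (R ⊗[A] C) (Localization.Away h')).comp
        (Algebra.TensorProduct.map (AlgHom.id R R) (IsScalarTower.toAlgHom A B C)).toRingHom).Flat := by
  classical
  let C' := B' ⊗[B₁] C₁
  -- base change to the given ring
  let BR := R ⊗[A] B
  let CR := R ⊗[A] C
  let incB : B →ₐ[A] BR := Algebra.TensorProduct.includeRight
  letI : Algebra B' BR := β.toAlgebra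
  let κ : BR →ₐ[R] CR := Algebra.TensorProduct.map (AlgHom.id R R) (IsScalarTower.toAlgHom A B C)
  letI : Algebra BR CR := κ.toRingHom.toAlgebra
  letI : Algebra B' CR := (κ.toRingHom.comp β).toAlgebra
  haveI : IsScalarTower B' BR CR := IsScalarTower.of_algebraMap_eq fun _ => rfl
  letI : Algebra B₁ CR := ((algebraMap B' CR).comp (algebraMap B₁ B')).toAlgebra
  haveI : IsScalarTower B₁ B' CR := IsScalarTower.of_algebraMap_eq fun _ => rfl
  have hB₁CR : ∀ b, algebraMap B₁ CR b = (1 : R) ⊗ₜ algebraMap B C (φ₀ b) := fun b => by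
    show κ (β (algebraMap B₁ B' b)) = _
    rw [hβ]
    rfl
  let incC : C →ₐ[A] CR := Algebra.TensorProduct.includeRight
  obtain ⟨w, hw, hwX⟩ := exists_hom_of_eval π₁ hπ₁ hG₁ (algebraMap B₁ CR)
    (fun j => incC (π (MvPolynomial.X j))) (by
      intro g hg
      have : algebraMap B₁ CR = (incC.toRingHom.comp (algebraMap B C)).comp φ₀ :=
        RingHom.ext hB₁CR
      rw [this, ← MvPolynomial.eval₂_map]
      exact eval_eq_zero π hG incC.toRingHom _ ⟨g, hg, rfl⟩)
  let w' : C₁ →ₐ[B₁] CR := { w with commutes' := fun b => RingHom.congr_fun hw b }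
  let wC' : C' →ₐ[B'] CR :=
    Algebra.TensorProduct.lift (Algebra.ofId B' CR) w' fun _ _ => Commute.all _ _
  let Q := BR ⊗[B'] C'
  let back : Q →ₐ[BR] CR := Algebra.TensorProduct.lift (Algebra.ofId BR CR) wC' fun _ _ => Commute.all _ _
  let μQ : B →+* Q := (algebraMap BR Q).comp incB.toRingHom
  obtain ⟨v, hv, hvX⟩ := exists_hom_of_eval π hπ hG μQ
    (fun j => (1 : BR) ⊗ₜ[B'] ((1 : B') ⊗ₜ[B₁] π₁ (MvPolynomial.X j))) (by
      rintro _ ⟨g, hg, rfl⟩
      rw [MvPolynomial.eval₂_map]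
      let inQ : C₁ →+* Q := (Algebra.TensorProduct.includeRight : C' →ₐ[B'] Q).toRingHom.comp
        (Algebra.TensorProduct.includeRight : C₁ →ₐ[B₁] C').toRingHom
      have h1 : μQ.comp φ₀ = inQ.comp (algebraMap B₁ C₁) := by
        refine RingHom.ext fun b => ?_
        show algebraMap BR Q ((1 : R) ⊗ₜ φ₀ b) = (1 : BR) ⊗ₜ[B'] ((1 : B') ⊗ₜ[B₁] algebraMap B₁ C₁ b)
        rw [← Algebra.TensorProduct.tmul_one_eq_one_tmul (A := B') b,
          show (algebraMap B₁ B' b ⊗ₜ[B₁] (1 : C₁) : C') = algebraMap B' C' (algebraMap B₁ B' b) from rfl,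
          ← Algebra.TensorProduct.tmul_one_eq_one_tmul]
        show _ = β (algebraMap B₁ B' b) ⊗ₜ[B'] (1 : C')
        rw [hβ]
        rfl
      rw [h1]
      exact eval_eq_zero π₁ hG₁ inQ _ hg)
  have hvA : ∀ x, v (algebraMap A C x) = algebraMap A Q x := fun x => by
    rw [IsScalarTower.algebraMap_apply A B C, ← RingHom.comp_apply, hv]
    show algebraMap BR Q (incB (algebraMap A B x)) = algebraMap A Q x
    rw [incB.commutes, ← IsScalarTower.algebraMap_apply]
  let v' : C →ₐ[A] Q := { v with commutes' := hvA }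
  let fwd : CR →+* Q := (Algebra.TensorProduct.lift ((IsScalarTower.toAlgHom A BR Q).comp
    (Algebra.TensorProduct.includeLeft : R →ₐ[A] BR)) v' fun _ _ => Commute.all _ _).toRingHom
  have hfwd : ∀ r x, fwd (r ⊗ₜ x) = algebraMap BR Q (r ⊗ₜ 1) * v x := fun r x =>
    Algebra.TensorProduct.lift_tmul _ _ _ _ _
  have hfκ : ∀ x, fwd (κ x) = algebraMap BR Q x := fun x => by
    induction x using TensorProduct.induction_on with
    | zero => simp
    | add x y hx hy => simp only [map_add, hx, hy]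
    | tmul r b =>
      show fwd (r ⊗ₜ algebraMap B C b) = _
      rw [hfwd, ← RingHom.comp_apply, hv]
      show algebraMap BR Q (r ⊗ₜ 1) * algebraMap BR Q ((1 : R) ⊗ₜ b) = _
      rw [← map_mul, Algebra.TensorProduct.tmul_mul_tmul, mul_one, one_mul]
  have hbf : ∀ z, back (fwd z) = z := fun z => by
    induction z using TensorProduct.induction_on with
    | zero => simp
    | add x y hx hy => simp only [map_add, hx, hy]
    | tmul r x =>
      rw [hfwd, map_mul, AlgHom.commutes]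
      show κ (r ⊗ₜ 1) * (back.toRingHom.comp v) x = _
      rw [hom_ext_of_generators π hπ (ψ := back.toRingHom.comp v) (ψ' := incC.toRingHom) (by
          rw [RingHom.comp_assoc, hv]
          refine RingHom.ext fun b => ?_
          show back (algebraMap BR Q (incB b)) = _
          rw [AlgHom.commutes]
          rfl) (fun j => by
          show back (v (π (MvPolynomial.X j))) = _
          rw [hvX, Algebra.TensorProduct.lift_tmul, map_one, one_mul, Algebra.TensorProduct.lift_tmul,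
            map_one, one_mul]
          exact hwX j)]
      show (r ⊗ₜ algebraMap B C 1 : CR) * ((1 : R) ⊗ₜ x) = _
      rw [Algebra.TensorProduct.tmul_mul_tmul, mul_one, map_one, one_mul]
  let inQ : C₁ →+* Q := (Algebra.TensorProduct.includeRight : C' →ₐ[B'] Q).toRingHom.comp
    (Algebra.TensorProduct.includeRight : C₁ →ₐ[B₁] C').toRingHom
  have hfw : fwd.comp w = inQ := hom_ext_of_generators π₁ hπ₁ (RingHom.ext fun b => by
      show fwd (w (algebraMap B₁ C₁ b)) = (1 : BR) ⊗ₜ[B'] ((1 : B') ⊗ₜ[B₁] algebraMap B₁ C₁ b)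
      rw [show w (algebraMap B₁ C₁ b) = algebraMap B₁ CR b from RingHom.congr_fun hw b]
      show fwd (κ (β (algebraMap B₁ B' b))) = _
      rw [hfκ, ← Algebra.TensorProduct.tmul_one_eq_one_tmul (A := B') b,
        show (algebraMap B₁ B' b ⊗ₜ[B₁] (1 : C₁) : C') = algebraMap B' C' (algebraMap B₁ B' b) from rfl,
        ← Algebra.TensorProduct.tmul_one_eq_one_tmul]
      rfl) (fun j => by
      show fwd (w (π₁ (MvPolynomial.X j))) = _
      rw [hwX]
      show fwd ((1 : R) ⊗ₜ π (MvPolynomial.X j)) = _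
      rw [hfwd, hvX, show ((1 : R) ⊗ₜ[A] (1 : B) : BR) = 1 from rfl, map_one, one_mul]
      rfl)
  have hfb : ∀ q, fwd (back q) = q := fun q => by
    induction q using TensorProduct.induction_on with
    | zero => simp
    | add x y hx hy => simp only [map_add, hx, hy]
    | tmul x y =>
      rw [Algebra.TensorProduct.lift_tmul, map_mul]
      show fwd (κ x) * fwd (wC' y) = _
      rw [hfκ]
      have hy : fwd (wC' y) = (1 : BR) ⊗ₜ[B'] y := by
        induction y using TensorProduct.induction_on with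
        | zero => simp
        | add a b ha hb => rw [map_add, map_add, TensorProduct.tmul_add, ha, hb]
        | tmul a b =>
          rw [Algebra.TensorProduct.lift_tmul, map_mul]
          show fwd (κ (β a)) * (fwd.comp w) b = _
          rw [hfκ, hfw]
          show (β a ⊗ₜ[B'] (1 : C') : Q) * ((1 : BR) ⊗ₜ[B'] ((1 : B') ⊗ₜ[B₁] b)) = _
          rw [show β a = algebraMap B' BR a from rfl, Algebra.TensorProduct.tmul_one_eq_one_tmul,
            Algebra.TensorProduct.tmul_mul_tmul, one_mul, Algebra.TensorProduct.algebraMap_apply,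
            Algebra.algebraMap_self, RingHom.id_apply, Algebra.TensorProduct.tmul_mul_tmul, mul_one, one_mul]
      rw [hy]
      show (x ⊗ₜ[B'] (1 : C') : Q) * ((1 : BR) ⊗ₜ[B'] y) = _
      rw [Algebra.TensorProduct.tmul_mul_tmul, mul_one, one_mul]
  let Θ : Q ≃+* CR :=
    { toFun := back
      invFun := fwd
      left_inv := hfb
      right_inv := hbf
      map_mul' := map_mul back
      map_add' := map_add back }
  refine ⟨Θ ((1 : BR) ⊗ₜ[B'] h), ?_, ?_⟩
  · have hΘ : Θ ((1 : BR) ⊗ₜ[B'] h) = wC' h := by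
      show back ((1 : BR) ⊗ₜ[B'] h) = _
      rw [Algebra.TensorProduct.lift_tmul, map_one, one_mul]
    have hker' : I'.map (algebraMap B' C') ≤
        RingHom.ker ((bcSec eC R).toRingHom.comp wC'.toRingHom) := by
      refine Ideal.map_le_iff_le_comap.2 fun x hx => ?_
      show bcSec eC R (wC' (algebraMap B' C' x)) = 0
      rw [wC'.commutes]
      show bcSec eC R (κ (β x)) = 0
      have h1 : ∀ z : BR, bcSec eC R (κ z) = bcSec e R z := fun z => by
        induction z using TensorProduct.induction_on with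
        | zero => simp
        | add a b ha hb => simp only [map_add, ha, hb]
        | tmul r b =>
          show bcSec eC R (r ⊗ₜ algebraMap B C b) = _
          rw [bcSec_tmul, bcSec_tmul, hcomp]
      rw [h1, hβI x hx]
    rw [hΘ]
    have := hker' hh
    rw [RingHom.mem_ker] at this
    simpa [sub_eq_zero] using this
  · haveI := hflat
    exact flat_away_of_ringEquiv κ.toRingHom Θ (fun x => back.commutes x) _
      (flat_away_baseChange (B := B') (C := C') BR h)


/-- **The locus where an unramified chart at a section is an isomorphism on all infinitesimal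
neighbourhoods, and flatness near the section over it.** -/
theorem exists_mono_locus {C : Type u} [CommRing C] [Algebra A C] [Algebra B C] [IsScalarTower A B C]
    [Algebra.Smooth A B] [Algebra.FinitePresentation B C] (eC : C →ₐ[A] A)
    (hcomp : ∀ b, eC (algebraMap B C b) = e b)
    (hker : RingHom.ker eC ≤ (RingHom.ker e).map (algebraMap B C)) :
    ∃ I : Ideal A, I.FG ∧ ∀ (R : Type u) [CommRing R] [Algebra A R],
      ((∀ n, ∃ ψ : C →+* (R ⊗[A] B) ⧸ RingHom.ker (bcSec e R) ^ n, ∀ b,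
        ψ (algebraMap B C b) = Ideal.Quotient.mk _ ((1 : R) ⊗ₜ b)) →
          I ≤ RingHom.ker (algebraMap A R)) ∧
      (I ≤ RingHom.ker (algebraMap A R) → ∃ h : R ⊗[A] C, bcSec eC R h = 1 ∧
        ((algebraMap (R ⊗[A] C) (Localization.Away h)).comp
          (Algebra.TensorProduct.map (AlgHom.id R R) (IsScalarTower.toAlgHom A B C)).toRingHom).Flat) := by
  obtain ⟨A₁, B₁, _, _, φ₀, e₀, m, π, G₁, _, _, hbc, he, hπ, hG, hsurj⟩ := exists_stage e eC hcomp hker
  let π₁ : MvPolynomial (Fin m) B₁ →ₐ[B₁] MvPolynomial (Fin m) B₁ ⧸ Ideal.span G₁ :=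
    Ideal.Quotient.mkₐ B₁ _
  have hπ₁ : Function.Surjective π₁ := Ideal.Quotient.mk_surjective
  have hG₁ : RingHom.ker π₁ = Ideal.span G₁ := Ideal.Quotient.mkₐ_ker B₁ _
  have : Algebra.FiniteType B₁ (MvPolynomial (Fin m) B₁ ⧸ Ideal.span G₁) :=
    Algebra.FiniteType.of_surjective π₁ hπ₁
  obtain ⟨𝔞, h𝔞, hψ⟩ := exists_stage_ideal e₀ hsurj
  letI : Algebra B₁ ((A₁ ⧸ 𝔞) ⊗[A₁] B₁) := Algebra.TensorProduct.rightAlgebra
  have hrA : ∀ b, algebraMap B₁ ((A₁ ⧸ 𝔞) ⊗[A₁] B₁) b = (1 : A₁ ⧸ 𝔞) ⊗ₜ b := fun _ => rfl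
  have : IsNoetherianRing ((A₁ ⧸ 𝔞) ⊗[A₁] B₁) := Algebra.FiniteType.isNoetherianRing (A₁ ⧸ 𝔞) _
  obtain ⟨h, hh, hflat⟩ := exists_flat_nhd_baseChange (RingHom.ker e₀) hsurj
    (RingHom.ker (bcSec e₀ (A₁ ⧸ 𝔞))) (fun x hx => by
      show bcSec e₀ (A₁ ⧸ 𝔞) ((1 : A₁ ⧸ 𝔞) ⊗ₜ x) = 0
      rw [bcSec_tmul, show e₀ x = 0 from hx, map_zero, mul_zero]) hψ
  refine ⟨𝔞.map (algebraMap A₁ A), Ideal.FG.map (IsNoetherian.noetherian 𝔞) _, fun R _ _ =>
    ⟨fun hR => ?_, fun hR => ?_⟩⟩
  swap
  · have h0 : ∀ x ∈ 𝔞, algebraMap A₁ R x = 0 := fun x hx => by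
      rw [IsScalarTower.algebraMap_apply A₁ A R]
      exact hR (Ideal.mem_map_of_mem _ hx)
    let η : A₁ ⧸ 𝔞 →ₐ[A₁] R ⊗[A] B := (IsScalarTower.toAlgHom A₁ R (R ⊗[A] B)).comp
      (Ideal.Quotient.liftₐ 𝔞 (Algebra.ofId A₁ R) h0)
    let ι₀ : B₁ →ₐ[A₁] R ⊗[A] B :=
      ((Algebra.TensorProduct.includeRight : B →ₐ[A] R ⊗[A] B).restrictScalars A₁).comp φ₀
    let β : (A₁ ⧸ 𝔞) ⊗[A₁] B₁ →ₐ[A₁] R ⊗[A] B :=
      Algebra.TensorProduct.lift η ι₀ fun _ _ => Commute.all _ _
    refine exists_flat_transport e eC hcomp φ₀.toRingHom π hπ G₁ hG _ π₁ hπ₁ hG₁ h hh hflat R β.toRingHom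
      (fun b => ?_) (fun x hx => ?_)
    · show β ((1 : A₁ ⧸ 𝔞) ⊗ₜ b) = _
      rw [Algebra.TensorProduct.lift_tmul, map_one, one_mul]
      rfl
    · have h2 : ∀ z, bcSec e R (β z) =
          Ideal.Quotient.liftₐ 𝔞 (Algebra.ofId A₁ R) h0 (bcSec e₀ (A₁ ⧸ 𝔞) z) := fun z => by
        induction z using TensorProduct.induction_on with
        | zero => simp
        | add a b ha hb => simp only [map_add, ha, hb]
        | tmul r b =>
          rw [Algebra.TensorProduct.lift_tmul, map_mul, bcSec_tmul, map_mul]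
          congr 1
          · show bcSec e R (algebraMap R (R ⊗[A] B) _) = _
            rw [AlgHom.commutes]
            rfl
          · show bcSec e R ((1 : R) ⊗ₜ φ₀ b) = _
            rw [bcSec_tmul, one_mul, he, ← IsScalarTower.algebraMap_apply A₁ A R, AlgHom.commutes]
      show bcSec e R (β x) = 0
      rw [h2, show bcSec e₀ (A₁ ⧸ 𝔞) x = 0 from hx, map_zero]
  let φR : B₁ →ₐ[A₁] R ⊗[A] B :=
    { toRingHom := (Algebra.TensorProduct.includeRight : B →ₐ[A] R ⊗[A] B).toRingHom.comp φ₀.toRingHom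
      commutes' := fun x => by
        show (1 : R) ⊗ₜ[A] φ₀ (algebraMap A₁ B₁ x) = algebraMap A₁ (R ⊗[A] B) x
        rw [φ₀.commutes, IsScalarTower.algebraMap_apply A₁ A B, IsScalarTower.algebraMap_apply A₁ A]
        exact (Algebra.TensorProduct.tmul_one_eq_one_tmul (algebraMap A₁ A x)).symm }
  have hφR : IsBaseChange R φR.toLinearMap := by
    have h1 := IsBaseChange.comp hbc (TensorProduct.isBaseChange A B R)
    exact h1
  refine Ideal.map_le_iff_le_comap.2 fun x hx => ?_
  show algebraMap A R (algebraMap A₁ A x) = 0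
  rw [← IsScalarTower.algebraMap_apply A₁ A R]
  refine h𝔞 R (R ⊗[A] B) φR (bcSec e R) hφR (fun b => ?_) (fun n => ?_) hx
  · show bcSec e R ((1 : R) ⊗ₜ φ₀ b) = _
    rw [bcSec_tmul, one_mul, he, ← IsScalarTower.algebraMap_apply A₁ A R]
  · obtain ⟨ψ, hψ⟩ := hR n
    obtain ⟨ψ₁, hψ₁, -⟩ := exists_hom_of_eval π₁ hπ₁ hG₁ ((ψ.comp (algebraMap B C)).comp φ₀.toRingHom)
      (fun j => ψ (π (MvPolynomial.X j))) (fun g hg => by
        rw [← MvPolynomial.eval₂_map]
        exact eval_eq_zero π hG ψ _ ⟨g, hg, rfl⟩)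
    exact ⟨ψ₁, fun b => (RingHom.congr_fun hψ₁ b).trans (hψ (φ₀ b))⟩

end GrothLib.SecLocus
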