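import Mathlib
import Groth.Agent.Lib.SecLocus.MonoLocus
import Groth.Agent.Lib.EssFree.Proj
import Groth.Agent.Lib.DiagGrp.KernelFP

/-!
# Charts at a section for a monomorphism into a smooth scheme
-/

universe u

open CategoryTheory CategoryTheory.Limits AlgebraicGeometry
open scoped TensorProduct

namespace GrothLib.SecLocus

variable {S X Y : Scheme.{u}} (f : X ⟶ S) (gY : Y ⟶ S) (i : Y ⟶ X)
  {A : Type u} [CommRing A] (j : Spec (CommRingCat.of A) ⟶ S) [IsOpenImmersion j]

/-- A chart over an open affine of the base is the base change of the chart to the base. -/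
theorem isPullback_chart {B : Type u} [CommRing B] [Algebra A B]
    (φ : Spec (CommRingCat.of B) ⟶ X)
    (hφ : φ ≫ f = Spec.map (CommRingCat.ofHom (algebraMap A B)) ≫ j) :
    IsPullback (𝟙 _) (Spec.map (CommRingCat.ofHom (algebraMap A B))) (φ ≫ f) j :=
  IsPullback.of_horiz_isIso_mono ⟨by rw [Category.id_comp]; exact hφ⟩

theorem finitePresentation_chart [LocallyOfFinitePresentation gY] {B : Type u} [CommRing B]
    [Algebra A B] (φ : Spec (CommRingCat.of B) ⟶ Y) [IsOpenImmersion φ]
    (hφ : φ ≫ gY = Spec.map (CommRingCat.ofHom (algebraMap A B)) ≫ j) :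
    Algebra.FinitePresentation A B := by
  have h : LocallyOfFinitePresentation (Spec.map (CommRingCat.ofHom (algebraMap A B))) :=
    MorphismProperty.of_isPullback (P := @LocallyOfFinitePresentation) (isPullback_chart gY j φ hφ)
      inferInstance
  rw [HasRingHomProperty.Spec_iff (P := @LocallyOfFinitePresentation)] at h
  exact RingHom.finitePresentation_algebraMap.1 h

theorem smooth_chart [Smooth f] {B : Type u} [CommRing B] [Algebra A B]
    (φ : Spec (CommRingCat.of B) ⟶ X) [IsOpenImmersion φ]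
    (hφ : φ ≫ f = Spec.map (CommRingCat.ofHom (algebraMap A B)) ≫ j) : Algebra.Smooth A B := by
  have h : Smooth (Spec.map (CommRingCat.ofHom (algebraMap A B))) :=
    MorphismProperty.of_isPullback (P := @Smooth) (isPullback_chart f j φ hφ) inferInstance
  rw [HasRingHomProperty.Spec_iff (P := @Smooth)] at h
  exact RingHom.smooth_algebraMap.1 h

/-- The chart of a base change. -/
theorem exists_chart_bc {B : Type u} [CommRing B] [Algebra A B]
    (φ : Spec (CommRingCat.of B) ⟶ X) [IsOpenImmersion φ]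
    (hφ : φ ≫ f = Spec.map (CommRingCat.ofHom (algebraMap A B)) ≫ j)
    (R : Type u) [CommRing R] [Algebra A R] :
    ∃ c : Spec (CommRingCat.of (R ⊗[A] B)) ⟶
        pullback f (Spec.map (CommRingCat.ofHom (algebraMap A R)) ≫ j),
      IsOpenImmersion c ∧
      c ≫ pullback.fst _ _ = Spec.map (CommRingCat.ofHom
        (Algebra.TensorProduct.includeRight (R := A) (A := R) (B := B)).toRingHom) ≫ φ ∧
      c ≫ pullback.snd _ _ = Spec.map (CommRingCat.ofHom
        (Algebra.TensorProduct.includeLeftRingHom : R →+* R ⊗[A] B)) := by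
  let θ := CommRingCat.ofHom (algebraMap A B)
  let α := CommRingCat.ofHom (algebraMap A R)
  let iB := CommRingCat.ofHom (Algebra.TensorProduct.includeRight (R := A) (A := R) (B := B)).toRingHom
  let iR := CommRingCat.ofHom (Algebra.TensorProduct.includeLeftRingHom : R →+* R ⊗[A] B)
  have h0 : IsPullback (Spec.map iR) (Spec.map iB) (Spec.map α) (Spec.map θ) :=
    isPullback_SpecMap_of_isPushout _ _ _ _ (CommRingCat.isPushout_tensorProduct A R B)
  have h1 : IsPullback (Spec.map iB) (Spec.map iR) (φ ≫ f) (Spec.map α ≫ j) := by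
    have h2 := h0.paste_horiz (IsPullback.of_horiz_isIso_mono
      (fst := 𝟙 (Spec (CommRingCat.of R))) (snd := Spec.map α) (f := Spec.map α ≫ j) (g := j)
      ⟨by simp⟩)
    rw [hφ]
    simpa only [Category.comp_id] using h2.flip
  let c := pullback.lift (f := f) (g := Spec.map α ≫ j) (Spec.map iB ≫ φ) (Spec.map iR)
    (by rw [Category.assoc]; exact h1.w)
  have hc₁ : c ≫ pullback.fst _ _ = Spec.map iB ≫ φ := pullback.lift_fst _ _ _
  have hc₂ : c ≫ pullback.snd _ _ = Spec.map iR := pullback.lift_snd _ _ _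
  have h3 : IsPullback (Spec.map iB) c φ (pullback.fst f (Spec.map α ≫ j)) :=
    (IsPullback.of_right (h₁₁ := c) (h₁₂ := pullback.snd f (Spec.map α ≫ j))
      (v₁₁ := Spec.map iB) (v₁₂ := pullback.fst f (Spec.map α ≫ j)) (h₂₁ := φ) (h₂₂ := f)
      (by rw [hc₂]; exact h1.flip) hc₁ (IsPullback.of_hasPullback f _).flip).flip
  exact ⟨c, MorphismProperty.of_isPullback (P := @IsOpenImmersion) h3 inferInstance, hc₁, hc₂⟩

set_option maxHeartbeats 800000 in
/-- **The ideal of a chart.** Near a section of a monomorphism of finite presentation into a smooth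
scheme, factorisation is bounded by an ideal, and over it the monomorphism is an isomorphism on an
open neighbourhood of the section. -/
theorem exists_ideal_chart [Smooth f] [LocallyOfFinitePresentation gY] [Mono i] (hi : i ≫ f = gY)
    (eX : S ⟶ X) (eY : S ⟶ Y) (hXY : eY ≫ i = eX) (hsec : eX ≫ f = 𝟙 S)
    {B C : Type u} [CommRing B] [CommRing C] [Algebra A B] [Algebra A C] [Algebra B C]
    [IsScalarTower A B C]
    (φ : Spec (CommRingCat.of B) ⟶ X) [IsOpenImmersion φ]
    (χ : Spec (CommRingCat.of C) ⟶ Y) [IsOpenImmersion χ]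
    (hφ : φ ≫ f = Spec.map (CommRingCat.ofHom (algebraMap A B)) ≫ j)
    (hχ : χ ≫ i = Spec.map (CommRingCat.ofHom (algebraMap B C)) ≫ φ)
    (e : B →ₐ[A] A) (he : Spec.map (CommRingCat.ofHom e.toRingHom) ≫ φ = j ≫ eX)
    (eC : C →ₐ[A] A) (heC : Spec.map (CommRingCat.ofHom eC.toRingHom) ≫ χ = j ≫ eY) :
    ∃ I : Ideal A, I.FG ∧ ∀ (R : Type u) [CommRing R] [Algebra A R],
      let g := Spec.map (CommRingCat.ofHom (algebraMap A R)) ≫ j
      (EssFree.FactorsThrough f i _ g → I ≤ RingHom.ker (algebraMap A R)) ∧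
      (I ≤ RingHom.ker (algebraMap A R) →
        ∃ (W : Scheme.{u}) (o : W ⟶ pullback f g) (_ : IsOpenImmersion o) (l : W ⟶ Y)
          (σ : Spec (CommRingCat.of R) ⟶ W), l ≫ i = o ≫ pullback.fst f g ∧
          σ ≫ o ≫ pullback.fst f g = g ≫ eX ∧ σ ≫ o ≫ pullback.snd f g = 𝟙 _) := by
  have hsm : Algebra.Smooth A B := smooth_chart f j φ hφ
  let θ' := CommRingCat.ofHom (algebraMap B C)
  have hχS : χ ≫ gY = Spec.map (CommRingCat.ofHom (algebraMap A C)) ≫ j := by
    rw [← hi, ← Category.assoc, hχ, Category.assoc, hφ, ← Category.assoc, ← Spec.map_comp]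
    congr 2
    exact CommRingCat.hom_ext (IsScalarTower.algebraMap_eq A B C).symm
  have hfp : Algebra.FinitePresentation A C := finitePresentation_chart gY j χ hχS
  have : Algebra.FinitePresentation B C :=
    Algebra.FinitePresentation.of_restrict_scalars_finitePresentation A B C
  haveI : Mono (Spec.map θ') := by
    haveI : Mono (Spec.map θ' ≫ φ) := by rw [← hχ]; infer_instance
    exact mono_of_mono (Spec.map θ') φ
  have hcomp : ∀ b, eC (algebraMap B C b) = e b := by
    have h1 : Spec.map (θ' ≫ CommRingCat.ofHom eC.toRingHom) =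
        Spec.map (CommRingCat.ofHom e.toRingHom) := by
      rw [← cancel_mono φ, Spec.map_comp, Category.assoc, ← hχ, ← Category.assoc, heC, he,
        Category.assoc, hXY]
    exact fun b => congrArg (fun q => q.hom b) (Spec.map_injective h1)
  have hker : RingHom.ker eC ≤ (RingHom.ker e).map (algebraMap B C) := by
    let J := (RingHom.ker e).map (algebraMap B C)
    let q : CommRingCat.of C ⟶ CommRingCat.of (C ⧸ J) := CommRingCat.ofHom (Ideal.Quotient.mk J)
    let r : CommRingCat.of C ⟶ CommRingCat.of (C ⧸ J) :=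
      CommRingCat.ofHom eC.toRingHom ≫ CommRingCat.ofHom (algebraMap A C) ≫ q
    have h1 : θ' ≫ q = θ' ≫ r := CommRingCat.hom_ext (RingHom.ext fun b => by
      show Ideal.Quotient.mk J (algebraMap B C b) =
        Ideal.Quotient.mk J (algebraMap A C (eC (algebraMap B C b)))
      rw [hcomp, IsScalarTower.algebraMap_apply A B C, Ideal.Quotient.eq, ← map_sub]
      exact Ideal.mem_map_of_mem _ (by
        rw [RingHom.mem_ker, map_sub, AlgHom.commutes]
        exact sub_self _))
    have h2 : q = r := Spec.map_injective (by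
      rw [← cancel_mono (Spec.map θ'), ← Spec.map_comp, ← Spec.map_comp, h1])
    intro x hx
    rw [← Ideal.Quotient.eq_zero_iff_mem]
    show q.hom x = 0
    rw [h2]
    show Ideal.Quotient.mk J (algebraMap A C (eC x)) = 0
    rw [show eC x = 0 from hx, map_zero, map_zero]
  obtain ⟨I, hIfg, hI⟩ := exists_mono_locus e eC hcomp hker
  refine ⟨I, hIfg, fun R _ _ => ?_⟩
  intro g
  let α := CommRingCat.ofHom (algebraMap A R)
  obtain ⟨c, hc, hc₁, hc₂⟩ := exists_chart_bc f j φ hφ R
  let iB := CommRingCat.ofHom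
    (Algebra.TensorProduct.includeRight (R := A) (A := R) (B := B)).toRingHom
  let iC := CommRingCat.ofHom
    (Algebra.TensorProduct.includeRight (R := A) (A := R) (B := C)).toRingHom
  let sB := CommRingCat.ofHom (bcSec e R).toRingHom
  refine ⟨fun ⟨l, hl⟩ => (hI R).1 fun n => ?_, fun hR => ?_⟩
  · let M := (R ⊗[A] B) ⧸ RingHom.ker (bcSec e R) ^ n
    let mk : CommRingCat.of (R ⊗[A] B) ⟶ CommRingCat.of M := CommRingCat.ofHom (Ideal.Quotient.mk _)
    have hσ : Spec.map sB ≫ c ≫ l = Spec.map α ≫ j ≫ eY := by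
      rw [← cancel_mono i, Category.assoc, Category.assoc, hl, hc₁, ← Category.assoc,
        ← Spec.map_comp, Category.assoc, Category.assoc, hXY, ← he, ← Category.assoc,
        ← Spec.map_comp]
      congr 2
      refine CommRingCat.hom_ext (RingHom.ext fun b => ?_)
      show bcSec e R ((1 : R) ⊗ₜ b) = algebraMap A R (e b)
      rw [bcSec_tmul, one_mul]
    have hsurj : Function.Surjective (bcSec e R) := fun r => ⟨r ⊗ₜ 1, by simp⟩
    have hr : Set.range (Spec.map mk ≫ c ≫ l) ⊆ Set.range χ := by
      rintro _ ⟨q, rfl⟩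
      have hz : (PrimeSpectrum.comap (Ideal.Quotient.mk _) q) ∈
          Set.range (PrimeSpectrum.comap (bcSec e R).toRingHom) := by
        rw [range_comap_of_surjective _ _ hsurj]
        intro x hx
        show Ideal.Quotient.mk _ x ∈ q.asIdeal
        refine q.isPrime.mem_of_pow_mem n ?_
        rw [← map_pow]
        have h0 : Ideal.Quotient.mk (RingHom.ker (bcSec e R) ^ n) (x ^ n) = 0 :=
          Ideal.Quotient.eq_zero_iff_mem.2 (Ideal.pow_mem_pow hx n)
        rw [h0]
        exact zero_mem _
      obtain ⟨p, hp⟩ := hz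
      refine ⟨Spec.map (CommRingCat.ofHom eC.toRingHom) (Spec.map α p), ?_⟩
      have h1 := congrArg (fun w => w p) hσ
      have h2 := congrArg (fun w => w (Spec.map α p)) heC
      exact h2.trans (h1.symm.trans (congrArg (fun z => (c ≫ l) z) hp))
    let ψ := Spec.preimage (IsOpenImmersion.lift χ _ hr)
    have hψ : θ' ≫ ψ = iB ≫ mk := Spec.map_injective (by
      rw [← cancel_mono φ, Spec.map_comp, Category.assoc, ← hχ, Spec.map_preimage,
        IsOpenImmersion.lift_fac_assoc, Category.assoc, Category.assoc, hl, hc₁, Spec.map_comp,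
        Category.assoc])
    exact ⟨ψ.hom, fun b => congrArg (fun w => w.hom b) hψ⟩
  obtain ⟨h, hh, hflat⟩ := (hI R).2 hR
  let κ := CommRingCat.ofHom
    (Algebra.TensorProduct.map (AlgHom.id R R) (IsScalarTower.toAlgHom A B C)).toRingHom
  let m : CommRingCat.of (R ⊗[A] C) ⟶ CommRingCat.of (Localization.Away h) :=
    CommRingCat.ofHom (algebraMap _ _)
  let iR := CommRingCat.ofHom (Algebra.TensorProduct.includeLeftRingHom : R →+* R ⊗[A] B)
  let iR' := CommRingCat.ofHom (Algebra.TensorProduct.includeLeftRingHom : R →+* R ⊗[A] C)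
  have hk₁ : iB ≫ κ = θ' ≫ iC := CommRingCat.hom_ext (RingHom.ext fun b => rfl)
  have hk₂ : iR ≫ κ = iR' := CommRingCat.hom_ext (RingHom.ext fun r => by
    show (r : R) ⊗ₜ[A] algebraMap B C 1 = r ⊗ₜ[A] (1 : C)
    rw [map_one])
  have hC0 : IsPullback (Spec.map iR') (Spec.map iC) (Spec.map α)
      (Spec.map (CommRingCat.ofHom (algebraMap A C))) :=
    isPullback_SpecMap_of_isPushout _ _ _ _ (CommRingCat.isPushout_tensorProduct A R C)
  haveI : Mono (Spec.map κ) := ⟨fun a b hab => hC0.hom_ext
    (by rw [← hk₂, Spec.map_comp, ← Category.assoc, ← Category.assoc, hab])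
    (by
      rw [← cancel_mono (Spec.map θ'), Category.assoc, Category.assoc, ← Spec.map_comp, ← hk₁,
        Spec.map_comp, ← Category.assoc, ← Category.assoc, hab])⟩
  have hB0 : IsPullback (Spec.map iR) (Spec.map iB) (Spec.map α)
      (Spec.map (CommRingCat.ofHom (algebraMap A B))) :=
    isPullback_SpecMap_of_isPushout _ _ _ _ (CommRingCat.isPushout_tensorProduct A R B)
  haveI : LocallyOfFiniteType (Spec.map iR) := by
    refine MorphismProperty.of_isPullback (P := @LocallyOfFiniteType) hB0.flip ?_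
    rw [HasRingHomProperty.Spec_iff (P := @LocallyOfFiniteType)]
    exact RingHom.finiteType_algebraMap.2 inferInstance
  haveI : LocallyOfFinitePresentation (Spec.map κ ≫ Spec.map iR) := by
    rw [← Spec.map_comp, hk₂]
    refine MorphismProperty.of_isPullback (P := @LocallyOfFinitePresentation) hC0.flip ?_
    rw [HasRingHomProperty.Spec_iff (P := @LocallyOfFinitePresentation)]
    exact RingHom.finitePresentation_algebraMap.2 hfp
  haveI : LocallyOfFinitePresentation (Spec.map κ) :=
    DiagGrp.lfp_of_comp_of_lft (Spec.map κ) (Spec.map iR) inferInstance inferInstance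
  haveI : IsOpenImmersion (Spec.map m) := IsOpenImmersion.of_isLocalization h
  haveI : Flat (Spec.map (κ ≫ m)) := (HasRingHomProperty.Spec_iff (P := @Flat)).2 hflat
  haveI : LocallyOfFinitePresentation (Spec.map (κ ≫ m)) := by
    rw [Spec.map_comp]; infer_instance
  haveI : Mono (Spec.map (κ ≫ m)) := by rw [Spec.map_comp]; infer_instance
  haveI : IsOpenImmersion (Spec.map (κ ≫ m)) := IsOpenImmersion.of_flat_of_mono _
  have hu : IsUnit ((bcSec eC R).toRingHom h) := by
    show IsUnit (bcSec eC R h)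
    rw [hh]
    exact isUnit_one
  let τ : CommRingCat.of (Localization.Away h) ⟶ CommRingCat.of R :=
    CommRingCat.ofHom (IsLocalization.Away.lift (S := Localization.Away h) h hu)
  have hτ : m ≫ τ = CommRingCat.ofHom (bcSec eC R).toRingHom :=
    CommRingCat.hom_ext (IsLocalization.Away.lift_comp (S := Localization.Away h) h hu)
  refine ⟨_, Spec.map (κ ≫ m) ≫ c, inferInstance, Spec.map m ≫ Spec.map iC ≫ χ, Spec.map τ, ?_, ?_, ?_⟩
  · simp only [Spec.map_comp, Category.assoc]
    rw [hχ, hc₁]
    simp only [← Category.assoc, ← Spec.map_comp]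
    congr 2
  · rw [Category.assoc, hc₁]
    show _ = (Spec.map α ≫ j) ≫ eX
    rw [Category.assoc, ← he]
    simp only [← Category.assoc, ← Spec.map_comp]
    congr 2
    refine CommRingCat.hom_ext (RingHom.ext fun b => ?_)
    show τ.hom (m.hom ((1 : R) ⊗ₜ algebraMap B C b)) = algebraMap A R (e b)
    rw [← RingHom.comp_apply, ← CommRingCat.hom_comp, hτ]
    show bcSec eC R ((1 : R) ⊗ₜ algebraMap B C b) = _
    rw [bcSec_tmul, one_mul, hcomp]
  · rw [Category.assoc, hc₂, ← Spec.map_comp, ← Spec.map_comp, ← Spec.map_id]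
    congr 1
    rw [← Category.assoc iR, hk₂]
    refine CommRingCat.hom_ext (RingHom.ext fun r => ?_)
    show τ.hom (m.hom (r ⊗ₜ (1 : C))) = r
    rw [← RingHom.comp_apply, ← CommRingCat.hom_comp, hτ]
    show bcSec eC R (r ⊗ₜ (1 : C)) = r
    simp

end GrothLib.SecLocus
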