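import Mathlib
import Groth.Agent.Lib.SecLocus.MonoChart
import Groth.Agent.Lib.SecLocus.Glue
import Groth.Agent.Lib.SecLocus.Locus

/-!
# The locus of the base over which a monomorphism into a smooth scheme with a section is surjective
-/

universe u

open CategoryTheory CategoryTheory.Limits AlgebraicGeometry
open scoped TensorProduct

namespace GrothLib.SecLocus

/-- Factorisation on an open neighbourhood of a section. -/
def FactorsNearSection {S X Y : Scheme.{u}} (f : X ⟶ S) (i : Y ⟶ X) (eX : S ⟶ X) (S' : Scheme.{u})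
    (g : S' ⟶ S) : Prop :=
  ∃ (W : Scheme.{u}) (o : W ⟶ pullback f g) (_ : IsOpenImmersion o) (l : W ⟶ Y) (σ : S' ⟶ W),
    l ≫ i = o ≫ pullback.fst f g ∧ σ ≫ o ≫ pullback.fst f g = g ≫ eX ∧
      σ ≫ o ≫ pullback.snd f g = 𝟙 _

variable {S X Y : Scheme.{u}} (f : X ⟶ S) (gY : Y ⟶ S) (i : Y ⟶ X) [Smooth f]
  [LocallyOfFinitePresentation gY] [Mono i] (hi : i ≫ f = gY)
  (eX : S ⟶ X) (eY : S ⟶ Y) (hXY : eY ≫ i = eX) (hsec : eX ≫ f = 𝟙 S)

include hi hXY hsec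

set_option maxHeartbeats 800000 in
/-- The ideal of the locus near a point of an affine open. -/
theorem exists_ideal_near
    (hgrp : ∀ (S' : Scheme.{u}) (g : S' ⟶ S),
      FactorsNearSection f i eX S' g → EssFree.FactorsThrough f i S' g)
    (U : S.affineOpens) (p : PrimeSpectrum Γ(S, U)) :
    ∃ a ∉ p.asIdeal, ∃ L : Ideal (Localization.Away a), L.FG ∧
      ∀ (R : Type u) [CommRing R] [Algebra Γ(S, U) R] [Algebra (Localization.Away a) R]
        [IsScalarTower Γ(S, U) (Localization.Away a) R],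
        EssFree.FactorsThrough f i (Spec (CommRingCat.of R))
          (Spec.map (CommRingCat.ofHom (algebraMap Γ(S, U) R)) ≫ U.2.fromSpec) ↔
            L ≤ RingHom.ker (algebraMap (Localization.Away a) R) := by
  have := U.2.isOpenImmersion_fromSpec
  let s : S := U.2.fromSpec p
  have hs : s ∈ U.1 := U.2.range_fromSpec.le ⟨p, rfl⟩
  have hfs : ∀ t, f (eX t) = t := fun t => congrArg (fun w => w t) hsec
  have his : ∀ t, i (eY t) = eX t := fun t => congrArg (fun w => w t) hXY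
  obtain ⟨_, ⟨W₀, hW₀, rfl⟩, hxW₀, hW₀U⟩ :=
    X.isBasis_affineOpens.exists_subset_of_mem_open (a := eX s)
      (show eX s ∈ (f ⁻¹ᵁ U.1 : Set X) by show f (eX s) ∈ U.1; rw [hfs]; exact hs) (f ⁻¹ᵁ U.1).2
  have hW₀ : IsAffineOpen W₀ := hW₀
  have hW₀U : W₀ ≤ f ⁻¹ᵁ U.1 := hW₀U
  obtain ⟨_, ⟨C₀, hC₀, rfl⟩, hyC₀, hC₀W⟩ :=
    Y.isBasis_affineOpens.exists_subset_of_mem_open (a := eY s)
      (show eY s ∈ (i ⁻¹ᵁ W₀ : Set Y) by show i (eY s) ∈ W₀; rw [his]; exact hxW₀) (i ⁻¹ᵁ W₀).2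
  have hC₀ : IsAffineOpen C₀ := hC₀
  have hC₀W : C₀ ≤ i ⁻¹ᵁ W₀ := hC₀W
  have hC₀U : C₀ ≤ gY ⁻¹ᵁ U.1 := fun y hy => by
    show gY y ∈ U.1
    rw [← hi]
    exact hW₀U (hC₀W hy)
  obtain ⟨_, ⟨a, rfl⟩, hpa, ha⟩ :=
    (PrimeSpectrum.isTopologicalBasis_basic_opens (R := Γ(S, U))).exists_subset_of_mem_open
      (show p ∈ U.2.fromSpec ⁻¹' ((eX ⁻¹ᵁ W₀) ⊓ (eY ⁻¹ᵁ C₀) : S.Opens) from ⟨hxW₀, hyC₀⟩)
      (((eX ⁻¹ᵁ W₀) ⊓ (eY ⁻¹ᵁ C₀)).2.preimage U.2.fromSpec.continuous)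
  refine ⟨a, hpa, ?_⟩
  let A := Localization.Away a
  let j : Spec (CommRingCat.of A) ⟶ S :=
    Spec.map (CommRingCat.ofHom (algebraMap Γ(S, U) A)) ≫ U.2.fromSpec
  haveI : IsOpenImmersion (Spec.map (CommRingCat.ofHom (algebraMap Γ(S, U) A))) :=
    IsOpenImmersion.of_isLocalization a
  have hjr : Set.range j = S.basicOpen a := by
    rw [← U.2.fromSpec_image_basicOpen a, Scheme.Hom.comp_base, TopCat.coe_comp, Set.range_comp]
    exact congrArg (U.2.fromSpec '' ·) (PrimeSpectrum.localization_away_comap_range A a)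
  have hDX : ∀ t ∈ S.basicOpen a, eX t ∈ W₀ ∧ eY t ∈ C₀ := fun t ht => by
    rw [← SetLike.mem_coe, ← U.2.fromSpec_image_basicOpen a] at ht
    obtain ⟨q, hq, rfl⟩ := ht
    exact ha hq
  let W := X.basicOpen (f.appLE U.1 W₀ hW₀U a)
  have hW : IsAffineOpen W := hW₀.basicOpen _
  have hWmem : ∀ x, x ∈ W ↔ x ∈ W₀ ∧ f x ∈ S.basicOpen a := fun x => by
    rw [show W = W₀ ⊓ f ⁻¹ᵁ S.basicOpen a from Scheme.basicOpen_appLE f W₀ U.1 hW₀U a]
    rfl
  let C₁ := Y.basicOpen (gY.appLE U.1 C₀ hC₀U a)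
  have hC : IsAffineOpen C₁ := hC₀.basicOpen _
  have hCmem : ∀ y, y ∈ C₁ ↔ y ∈ C₀ ∧ gY y ∈ S.basicOpen a := fun y => by
    rw [show C₁ = C₀ ⊓ gY ⁻¹ᵁ S.basicOpen a from Scheme.basicOpen_appLE gY C₀ U.1 hC₀U a]
    rfl
  let φ := hW.fromSpec
  let χ := hC.fromSpec
  have := hW.isOpenImmersion_fromSpec
  have := hC.isOpenImmersion_fromSpec
  have hr₁ : Set.range (φ ≫ f) ⊆ Set.range j := by
    rw [hjr]
    rintro _ ⟨q, rfl⟩
    exact ((hWmem _).1 (hW.range_fromSpec.le ⟨q, rfl⟩)).2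
  have hr₂ : Set.range (χ ≫ i) ⊆ Set.range φ := by
    rw [hW.range_fromSpec]
    rintro _ ⟨q, rfl⟩
    have hq := (hCmem _).1 (hC.range_fromSpec.le ⟨q, rfl⟩)
    refine (hWmem _).2 ⟨hC₀W hq.1, ?_⟩
    show (i ≫ f) _ ∈ _
    rw [hi]
    exact hq.2
  have hr₃ : Set.range (j ≫ eX) ⊆ Set.range φ := by
    rw [hW.range_fromSpec]
    rintro _ ⟨q, rfl⟩
    have hq : j q ∈ S.basicOpen a := hjr.le ⟨q, rfl⟩
    exact (hWmem _).2 ⟨(hDX _ hq).1, by show f (eX (j q)) ∈ _; rw [hfs]; exact hq⟩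
  have hr₄ : Set.range (j ≫ eY) ⊆ Set.range χ := by
    rw [hC.range_fromSpec]
    rintro _ ⟨q, rfl⟩
    have hq : j q ∈ S.basicOpen a := hjr.le ⟨q, rfl⟩
    refine (hCmem _).2 ⟨(hDX _ hq).2, ?_⟩
    show gY (eY (j q)) ∈ _
    rw [← hi, Scheme.Hom.comp_apply, his, hfs]
    exact hq
  let θ := Spec.preimage (IsOpenImmersion.lift j (φ ≫ f) hr₁)
  let θ' := Spec.preimage (IsOpenImmersion.lift φ (χ ≫ i) hr₂)
  let e₀ := Spec.preimage (IsOpenImmersion.lift φ (j ≫ eX) hr₃)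
  let eC₀ := Spec.preimage (IsOpenImmersion.lift χ (j ≫ eY) hr₄)
  have hθ : Spec.map θ ≫ j = φ ≫ f := by rw [Spec.map_preimage, IsOpenImmersion.lift_fac]
  have hθ' : Spec.map θ' ≫ φ = χ ≫ i := by rw [Spec.map_preimage, IsOpenImmersion.lift_fac]
  have he : Spec.map e₀ ≫ φ = j ≫ eX := by rw [Spec.map_preimage, IsOpenImmersion.lift_fac]
  have heC : Spec.map eC₀ ≫ χ = j ≫ eY := by rw [Spec.map_preimage, IsOpenImmersion.lift_fac]
  have heA : θ ≫ e₀ = 𝟙 _ := Spec.map_injective (by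
    rw [← cancel_mono j, Spec.map_comp, Category.assoc, hθ, ← Category.assoc, he, Category.assoc,
      hsec, Category.comp_id, Spec.map_id, Category.id_comp])
  have heCA : (θ ≫ θ') ≫ eC₀ = 𝟙 _ := Spec.map_injective (by
    rw [← cancel_mono j, Spec.map_comp, Spec.map_comp, Category.assoc, Category.assoc, hθ,
      ← Category.assoc (Spec.map θ'), hθ', Category.assoc, ← Category.assoc, heC, Category.assoc,
      ← Category.assoc eY, hXY, hsec, Category.comp_id, Spec.map_id, Category.id_comp])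
  letI : Algebra A Γ(X, W) := θ.hom.toAlgebra
  letI : Algebra Γ(X, W) Γ(Y, C₁) := θ'.hom.toAlgebra
  letI : Algebra A Γ(Y, C₁) := (θ ≫ θ').hom.toAlgebra
  haveI : IsScalarTower A Γ(X, W) Γ(Y, C₁) := IsScalarTower.of_algebraMap_eq fun _ => rfl
  let e : Γ(X, W) →ₐ[A] A :=
    { e₀.hom with commutes' := fun x => congrArg (fun w => w.hom x) heA }
  let eC : Γ(Y, C₁) →ₐ[A] A :=
    { eC₀.hom with commutes' := fun x => congrArg (fun w => w.hom x) heCA }
  obtain ⟨L, hLfg, hL⟩ := exists_ideal_chart f gY i j hi eX eY hXY hsec φ χ hθ.symm hθ'.symm e he eC heC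
  refine ⟨L, hLfg, fun R _ _ _ _ => ?_⟩
  have hg : Spec.map (CommRingCat.ofHom (algebraMap Γ(S, U) R)) ≫ U.2.fromSpec =
      Spec.map (CommRingCat.ofHom (algebraMap A R)) ≫ j := by
    rw [← Category.assoc, ← Spec.map_comp, ← CommRingCat.ofHom_comp,
      ← IsScalarTower.algebraMap_eq Γ(S, U) A R]
  rw [hg]
  exact ⟨(hL R).1, fun h => hgrp _ _ ((hL R).2 h)⟩

/-- **The locus over which a monomorphism into a smooth scheme with a section is surjective.** -/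
theorem exists_mono_closed_locus
    (hgrp : ∀ (S' : Scheme.{u}) (g : S' ⟶ S),
      FactorsNearSection f i eX S' g → EssFree.FactorsThrough f i S' g) :
    ∃ (T : Scheme.{u}) (t : T ⟶ S), IsClosedImmersion t ∧ LocallyOfFinitePresentation t ∧
      ∀ (S' : Scheme.{u}) (g : S' ⟶ S),
        (∃ g' : S' ⟶ T, g' ≫ t = g) ↔ EssFree.FactorsThrough f i S' g := by
  have haff : ∀ U : S.affineOpens, ∃ I : Ideal Γ(S, U), I.FG ∧
      ∀ {R : CommRingCat.{u}} (α : Γ(S, U) ⟶ R),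
        EssFree.FactorsThrough f i (Spec R) (Spec.map α ≫ U.2.fromSpec) ↔ I ≤ RingHom.ker α.hom := by
    intro U
    obtain ⟨I, hIfg, hI⟩ := exists_ideal_of_local
      (fun R _ _ => EssFree.FactorsThrough f i (Spec (CommRingCat.of R))
        (Spec.map (CommRingCat.ofHom (algebraMap Γ(S, U) R)) ≫ U.2.fromSpec))
      (fun R R' _ _ _ _ π h => by
        have := EssFree.factorsThrough_comp f i (Spec.map (CommRingCat.ofHom π.toRingHom)) _ h
        rwa [← Category.assoc, ← Spec.map_comp, ← CommRingCat.ofHom_comp,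
          show π.toRingHom.comp (algebraMap Γ(S, U) R) = algebraMap Γ(S, U) R' from
            π.comp_algebraMap] at this)
      (fun R _ _ h => factorsThrough_hloc f i _ fun q => by
        obtain ⟨b, hb, hQ⟩ := h q
        refine ⟨b, hb, ?_⟩
        rwa [← Category.assoc, ← Spec.map_comp, ← CommRingCat.ofHom_comp,
          ← IsScalarTower.algebraMap_eq Γ(S, U) R (Localization.Away b)])
      (exists_ideal_near f gY i hi eX eY hXY hsec hgrp U)
    refine ⟨I, hIfg, fun {R} α => ?_⟩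
    letI := α.hom.toAlgebra
    exact hI R
  obtain ⟨T, t, ht, hT⟩ := EssFree.exists_closed_of_local (EssFree.FactorsThrough f i)
    (EssFree.factorsThrough_comp f i) (EssFree.factorsThrough_of_local f i)
    (fun U => (haff U).imp fun I h => h.2)
  refine ⟨T, t, ht, locallyOfFinitePresentation_of_factors t fun U => ?_, fun S' g => hT g⟩
  obtain ⟨I, hIfg, hI⟩ := haff U
  exact ⟨I, hIfg, fun α => (hT _).trans (hI α)⟩

end GrothLib.SecLocus
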