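import Mathlib
import Groth.Agent.Lib.SecLocus.MonoLocal
import Groth.Agent.Lib.SepAct.Connected
import Groth.Agent.Lib.SepAct.DenseMul
import Groth.Agent.Lib.GrpSchField.Shear

/-!
# A monomorphism of groups which is surjective near the unit of a connected smooth group
-/

universe u

open CategoryTheory CategoryTheory.Limits MonoidalCategory CartesianMonoidalCategory MonObj GrpObj
open AlgebraicGeometry

set_option backward.isDefEq.respectTransparency false

namespace GrothLib.SecLocus

variable {S : Scheme.{u}}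

/-- A group over `S` with connected fibres has geometrically irreducible fibres. -/
theorem geometricallyIrreducible_of_connected (X : Over S) [GrpObj X] [LocallyOfFiniteType X.hom]
    (hconn : ∀ s : S, _root_.IsConnected (X.hom ⁻¹' {s})) : GeometricallyIrreducible X.hom :=
  (GeometricallyIrreducible.iff_geometricallyIrreducible_fiber X.hom).2 fun s =>
    SepAct.geometricallyIrreducible_fibre s (hconn s)

variable (X Y : Over S) [GrpObj X] [GrpObj Y] [Smooth X.hom] [GeometricallyIrreducible X.hom]
  (i : Y ⟶ X) [IsMonHom i] [Mono i]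

set_option maxHeartbeats 800000 in
/-- A subgroup containing a neighbourhood of the unit section is everything. -/
theorem factorsThrough_of_near (S' : Scheme.{u}) (g : S' ⟶ S)
    (h : FactorsNearSection X.hom i.left η[X].left S' g) :
    EssFree.FactorsThrough X.hom i.left S' g := by
  obtain ⟨W, o, ho, l, σ, hl, hσ₁, hσ₂⟩ := h
  let T' := Over.mk g
  let P : Over S := (X ⊗ X) ⊗ T'
  let q₁ : P ⟶ X ⊗ T' := lift (fst _ _ ≫ fst X X) (snd _ _)
  let q₂ : P ⟶ X ⊗ T' := lift (fst _ _ ≫ snd X X) (snd _ _)
  let U : Set (X ⊗ T').left := Set.range o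
  have hUo : IsOpen U := o.isOpenEmbedding.isOpen_range
  let Ω : P.left.Opens := ⟨q₁.left ⁻¹' U ∩ q₂.left ⁻¹' U,
    (hUo.preimage q₁.left.continuous).inter (hUo.preimage q₂.left.continuous)⟩
  let ω : Over.mk (Ω.ι ≫ P.hom) ⟶ P := Over.homMk Ω.ι rfl
  have hr₁ : Set.range (ω ≫ q₁).left ⊆ Set.range o := by
    rintro _ ⟨x, rfl⟩
    exact x.2.1
  have hr₂ : Set.range (ω ≫ q₂).left ⊆ Set.range o := by
    rintro _ ⟨x, rfl⟩
    exact x.2.2
  have hla : ∀ (r : Over.mk (Ω.ι ≫ P.hom) ⟶ X ⊗ T'), Set.range r.left ⊆ Set.range o →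
      ∃ la : Over.mk (Ω.ι ≫ P.hom) ⟶ Y, la ≫ i = r ≫ fst X T' := fun r hr => by
    have hl' : (IsOpenImmersion.lift o r.left hr ≫ l) ≫ i.left = (r ≫ fst X T').left := by
      rw [Category.assoc, hl]
      exact IsOpenImmersion.lift_fac_assoc o r.left hr _
    refine ⟨Over.homMk (IsOpenImmersion.lift o r.left hr ≫ l) ?_, Over.OverMorphism.ext hl'⟩
    rw [← Over.w i, ← Category.assoc, hl']
    exact Over.w _
  obtain ⟨la, hla₁⟩ := hla (ω ≫ q₁) hr₁
  obtain ⟨lb, hlb₁⟩ := hla (ω ≫ q₂) hr₂
  let m : Over.mk (Ω.ι ≫ P.hom) ⟶ X ⊗ T' := ω ≫ μ[X] ▷ T'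
  have hm : (la * lb) ≫ i = m ≫ fst X T' := by
    show _ = (ω ≫ μ[X] ▷ T') ≫ fst X T'
    rw [MonObj.mul_comp, hla₁, hlb₁, Category.assoc, Category.assoc, Category.assoc,
      whiskerRight_fst, ← MonObj.comp_mul]
    congr 1
    simp only [q₁, q₂, lift_fst, Hom.mul_def, ← CartesianMonoidalCategory.comp_lift, lift_fst_snd,
      Category.assoc]
    simp
  haveI : Flat μ[X].left :=
    GrpSchField.act_property @Flat (GrpSchField.mulAction X) inferInstance
  haveI : LocallyOfFinitePresentation μ[X].left :=
    GrpSchField.act_property @LocallyOfFinitePresentation (GrpSchField.mulAction X) inferInstance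
  haveI : Flat (μ[X] ▷ T').left := by
    rw [Over.whiskerRight_left]
    exact MorphismProperty.pullbackMap ‹Flat μ[X].left› (MorphismProperty.id_mem @Flat _)
      (Over.w μ[X]).symm (Category.id_comp _).symm
  haveI : LocallyOfFinitePresentation (μ[X] ▷ T').left := by
    rw [Over.whiskerRight_left]
    exact MorphismProperty.pullbackMap ‹LocallyOfFinitePresentation μ[X].left›
      (inferInstance : LocallyOfFinitePresentation (𝟙 _))
      (Over.w μ[X]).symm (Category.id_comp _).symm
  haveI : Flat m.left := inferInstanceAs (Flat (Ω.ι ≫ (μ[X] ▷ T').left))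
  haveI : LocallyOfFinitePresentation m.left :=
    inferInstanceAs (LocallyOfFinitePresentation (Ω.ι ≫ (μ[X] ▷ T').left))
  haveI : Surjective m.left := ⟨fun z => by
    let z' : ↥(pullback X.hom g) := z
    let K := (pullback X.hom g).residueField z'
    let r : Spec K ⟶ pullback X.hom g := (pullback X.hom g).fromSpecResidueField z'
    let b : Spec K ⟶ S' := r ≫ pullback.snd X.hom g
    let T : Over S := Over.mk (b ≫ g)
    let x : T ⟶ X := Over.homMk (r ≫ pullback.fst X.hom g) (by
      show (r ≫ pullback.fst X.hom g) ≫ X.hom = (r ≫ pullback.snd X.hom g) ≫ g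
      rw [Category.assoc, Category.assoc, pullback.condition])
    let tT : T ⟶ T' := Over.homMk b rfl
    haveI : IrreducibleSpace ↥(X ⊗ T).left :=
      inferInstanceAs (IrreducibleSpace ↥(pullback X.hom (b ≫ g)))
    let ψ : X ⊗ T ⟶ X ⊗ T' := lift (fst X T) (snd X T ≫ tT)
    let θ : X ⊗ T ≅ X ⊗ T :=
      { hom := lift ((fst X T)⁻¹ * (snd X T ≫ x)) (snd X T)
        inv := lift ((snd X T ≫ x) * (fst X T)⁻¹) (snd X T)
        hom_inv_id := by
          apply CartesianMonoidalCategory.hom_ext <;>
            simp [MonObj.comp_mul, GrpObj.comp_inv, mul_inv_cancel_left]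
        inv_hom_id := by
          apply CartesianMonoidalCategory.hom_ext <;> simp [MonObj.comp_mul, GrpObj.comp_inv, _root_.mul_assoc] }
    haveI : IsIso θ.hom.left := ((Over.forget S).mapIso θ).isIso_hom
    let u : T ⟶ X ⊗ T := lift (toUnit T ≫ η[X]) (𝟙 T)
    have hu : (u ≫ ψ).left = b ≫ σ ≫ o := by
      rw [show u ≫ ψ = lift (toUnit T ≫ η[X]) tT by
        apply CartesianMonoidalCategory.hom_ext <;> simp [u, ψ]]
      refine pullback.hom_ext (f := X.hom) (g := g) ?_ ?_
      · show _ = (b ≫ σ ≫ o) ≫ pullback.fst X.hom g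
        rw [Category.assoc b, Category.assoc σ, hσ₁]
        refine (congrArg Over.Hom.left (lift_fst (toUnit T ≫ η[X]) tT)).trans ?_
        show (toUnit T).left ≫ η[X].left = b ≫ g ≫ η[X].left
        rw [show (toUnit T).left = b ≫ g from (Category.comp_id _).symm.trans (Over.w (toUnit T)),
          Category.assoc]
      · show _ = (b ≫ σ ≫ o) ≫ pullback.snd X.hom g
        rw [Category.assoc b, Category.assoc σ, hσ₂, Category.comp_id]
        exact congrArg Over.Hom.left (lift_snd (toUnit T ≫ η[X]) tT)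
    have hne : (ψ.left ⁻¹' U).Nonempty := by
      let pt : T.left := IsLocalRing.closedPoint K
      refine ⟨u.left pt, σ (b pt), ?_⟩
      exact (congrArg (fun q => q pt) hu).symm
    obtain ⟨w, hw₁, hw₂⟩ := nonempty_preirreducible_inter (hUo.preimage ψ.left.continuous)
      ((hUo.preimage ψ.left.continuous).preimage θ.hom.left.continuous) hne
      (hne.preimage θ.hom.left.surjective)
    let π : X ⊗ T ⟶ P := lift (lift (fst X T) ((fst X T)⁻¹ * (snd X T ≫ x))) (snd X T ≫ tT)
    have h₁ : π ≫ q₁ = ψ := by apply CartesianMonoidalCategory.hom_ext <;> simp [π, q₁, ψ]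
    have h₂ : π ≫ q₂ = θ.hom ≫ ψ := by apply CartesianMonoidalCategory.hom_ext <;> simp [π, q₂, ψ, θ]
    have h₃ : π ≫ μ[X] ▷ T' = snd X T ≫ lift x tT := by
      apply CartesianMonoidalCategory.hom_ext
      · rw [Category.assoc, whiskerRight_fst, lift_fst_assoc, ← Hom.mul_def, mul_inv_cancel_left,
          Category.assoc, lift_fst]
      · rw [Category.assoc, whiskerRight_snd, lift_snd, Category.assoc, lift_snd]
    have hx : (lift x tT).left = r := by
      apply pullback.hom_ext
      · exact congrArg Over.Hom.left (lift_fst x tT)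
      · exact congrArg Over.Hom.left (lift_snd x tT)
    have hmem : π.left w ∈ Ω := ⟨by
        show q₁.left (π.left w) ∈ U
        rw [SepAct.left_apply h₁ w]
        exact hw₁,
      by
        show q₂.left (π.left w) ∈ U
        rw [SepAct.left_apply h₂ w, Over.comp_left, Scheme.Hom.comp_apply]
        exact hw₂⟩
    refine ⟨⟨π.left w, hmem⟩, ?_⟩
    show (μ[X] ▷ T').left (π.left w) = z
    rw [SepAct.left_apply h₃ w, Over.comp_left, Scheme.Hom.comp_apply]
    exact (congrArg (fun q => q ((snd X T).left w)) hx).trans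
      ((pullback X.hom g).fromSpecResidueField_apply z' _)⟩
  haveI : EffectiveEpi m.left := inferInstance
  have hm' : (la * lb).left ≫ i.left = m.left ≫ pullback.fst X.hom g :=
    congrArg Over.Hom.left hm
  let d := EffectiveEpi.desc m.left (la * lb).left fun g₁ g₂ hg => by
    rw [← cancel_mono i.left, Category.assoc, Category.assoc, hm', ← Category.assoc, ← Category.assoc, hg]
  refine ⟨d, ?_⟩
  rw [← cancel_epi m.left, ← hm', ← Category.assoc, EffectiveEpi.fac]

/-- **The locus over which a subgroup contains a smooth connected group.** -/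
theorem exists_closed_locus_group [LocallyOfFinitePresentation Y.hom] :
    ∃ (T : Scheme.{u}) (t : T ⟶ S), IsClosedImmersion t ∧ LocallyOfFinitePresentation t ∧
      ∀ (S' : Scheme.{u}) (g : S' ⟶ S),
        (∃ g' : S' ⟶ T, g' ≫ t = g) ↔ EssFree.FactorsThrough X.hom i.left S' g :=
  exists_mono_closed_locus X.hom Y.hom i.left (Over.w i) η[X].left η[Y].left
    (congrArg Over.Hom.left (IsMonHom.one_hom i)) (Over.w η[X])
    (factorsThrough_of_near X Y i)

end GrothLib.SecLocus
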