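import Mathlib
import Groth.Agent.Lib.SecLocus.MonoGroup
import Groth.Agent.Lib.DiagGrp.Points
import Groth.Agent.Lib.DiagGrp.KernelFP
import Groth.Agent.Lib.EssFree.Subgroup
import Groth.Prelude.Def_Red2

/-!
# Centralisers and normalisers of smooth connected subgroups are closed
-/

universe u

open CategoryTheory CategoryTheory.Limits MonoidalCategory CartesianMonoidalCategory MonObj GrpObj
open AlgebraicGeometry

set_option backward.isDefEq.respectTransparency false

namespace GrothLib.SecLocus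

section General

variable {B : Scheme.{u}} (X : Over B) [GrpObj X] [Smooth X.hom] [GeometricallyIrreducible X.hom]

/-- The locus of the base over which all points of a smooth connected group map into a subobject
cutting out a subgroup. -/
theorem exists_closed_locus_points {M N : Over B} (m : N ⟶ M) [Mono m]
    [LocallyOfFinitePresentation m.left] (p : X ⟶ M)
    (hone : ∀ T : Over B, ∃ w : T ⟶ N, w ≫ m = (1 : T ⟶ X) ≫ p)
    (hmul : ∀ (T : Over B) (a b : T ⟶ X), (∃ w : T ⟶ N, w ≫ m = a ≫ p) →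
      (∃ w : T ⟶ N, w ≫ m = b ≫ p) → ∃ w : T ⟶ N, w ≫ m = (a * b) ≫ p)
    (hinv : ∀ (T : Over B) (a : T ⟶ X), (∃ w : T ⟶ N, w ≫ m = a ≫ p) →
      ∃ w : T ⟶ N, w ≫ m = a⁻¹ ≫ p) :
    ∃ (Z : Scheme.{u}) (t : Z ⟶ B), IsClosedImmersion t ∧ LocallyOfFinitePresentation t ∧
      ∀ (S' : Scheme.{u}) (g : S' ⟶ B), (∃ g' : S' ⟶ Z, g' ≫ t = g) ↔
        ∀ (T : Over B) (_ : T ⟶ Over.mk g) (z : T ⟶ X), ∃ w : T ⟶ N, w ≫ m = z ≫ p := by
  let K : Over B := Over.mk (pullback.fst p.left m.left ≫ X.hom)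
  let k : K ⟶ X := Over.homMk (pullback.fst p.left m.left) rfl
  let kN : K ⟶ N := Over.homMk (pullback.snd p.left m.left) (by
    show pullback.snd p.left m.left ≫ N.hom = pullback.fst p.left m.left ≫ X.hom
    rw [← Over.w m, ← Category.assoc, ← pullback.condition, Category.assoc, Over.w p])
  have hk : kN ≫ m = k ≫ p := Over.OverMorphism.ext pullback.condition.symm
  haveI : Mono k.left := inferInstanceAs (Mono (pullback.fst p.left m.left))
  haveI : Mono k := (Over.forget B).mono_of_mono_map (show Mono k.left from inferInstance)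
  have hK : ∀ (T : Over B) (z : T ⟶ X),
      (∃ a : T ⟶ K, a ≫ k = z) ↔ ∃ w : T ⟶ N, w ≫ m = z ≫ p := fun T z => by
    constructor
    · rintro ⟨a, rfl⟩
      exact ⟨a ≫ kN, by rw [Category.assoc, hk, Category.assoc]⟩
    · rintro ⟨w, hw⟩
      refine ⟨Over.homMk (pullback.lift z.left w.left (congrArg Over.Hom.left hw).symm) ?_,
        Over.OverMorphism.ext (pullback.lift_fst _ _ _)⟩
      show pullback.lift _ _ _ ≫ pullback.fst p.left m.left ≫ X.hom = _
      rw [pullback.lift_fst_assoc]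
      exact Over.w z
  obtain ⟨_, _⟩ := EssFree.exists_grpObj_of_mono k (fun T => (hK T 1).2 (hone T))
    (fun T a b => (hK T _).2 (hmul T _ _ ((hK T _).1 ⟨a, rfl⟩) ((hK T _).1 ⟨b, rfl⟩)))
    (fun T a => (hK T _).2 (hinv T _ ((hK T _).1 ⟨a, rfl⟩)))
  haveI : LocallyOfFinitePresentation K.hom := by
    show LocallyOfFinitePresentation (pullback.fst p.left m.left ≫ X.hom)
    infer_instance
  obtain ⟨Z, t, ht, htfp, hZ⟩ := exists_closed_locus_group X K k
  refine ⟨Z, t, ht, htfp, fun S' g => (hZ S' g).trans ⟨?_, fun h => ?_⟩⟩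
  · rintro ⟨l, hl⟩ T x z
    refine (hK T z).1 ⟨Over.homMk ((lift z x).left ≫ l) ?_, Over.OverMorphism.ext ?_⟩
    · show ((lift z x).left ≫ l) ≫ pullback.fst p.left m.left ≫ X.hom = _
      rw [← Category.assoc, Category.assoc _ l, show l ≫ pullback.fst p.left m.left = _ from hl]
      rw [show (lift z x).left ≫ pullback.fst X.hom g = z.left from
        congrArg Over.Hom.left (lift_fst z x)]
      exact Over.w z
    · show ((lift z x).left ≫ l) ≫ k.left = z.left
      rw [Category.assoc, hl]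
      exact congrArg Over.Hom.left (lift_fst z x)
  · obtain ⟨a, ha⟩ := (hK _ _).2 (h (X ⊗ Over.mk g) (snd _ _) (fst _ _))
    exact ⟨a.left, congrArg Over.Hom.left ha⟩

section Conjugation

variable {G' : Over B} [GrpObj G'] [LocallyOfFiniteType G'.hom] (a : X ⟶ G') [IsMonHom a]
  (u : 𝟙_ (Over B) ⟶ G')

/-- The locus of the base over which a section commutes with a smooth connected group. -/
theorem exists_closed_locus_commute :
    ∃ (Z : Scheme.{u}) (t : Z ⟶ B), IsClosedImmersion t ∧ LocallyOfFinitePresentation t ∧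
      ∀ (S' : Scheme.{u}) (g : S' ⟶ B), (∃ g' : S' ⟶ Z, g' ≫ t = g) ↔
        ∀ (T : Over B) (_ : T ⟶ Over.mk g) (z : T ⟶ X),
          (toUnit T ≫ u) * (z ≫ a) = (z ≫ a) * (toUnit T ≫ u) := by
  let d : G' ⟶ G' ⊗ G' := lift (𝟙 _) (𝟙 _)
  haveI : Mono d := mono_of_mono_fac (show d ≫ fst G' G' = 𝟙 _ from lift_fst _ _)
  have hd : d.left ≫ (fst G' G').left = 𝟙 _ := congrArg Over.Hom.left (lift_fst (𝟙 G') (𝟙 G'))
  haveI : LocallyOfFinitePresentation d.left :=
    DiagGrp.lfp_of_comp_of_lft d.left (fst G' G').left (by rw [hd]; infer_instance)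
      (inferInstanceAs (LocallyOfFiniteType (pullback.fst G'.hom G'.hom)))
  let p : X ⟶ G' ⊗ G' := lift ((toUnit X ≫ u) * a * (toUnit X ≫ u)⁻¹) a
  have hp : ∀ (T : Over B) (z : T ⟶ X), (∃ w : T ⟶ G', w ≫ d = z ≫ p) ↔
      (toUnit T ≫ u) * (z ≫ a) = (z ≫ a) * (toUnit T ≫ u) := fun T z => by
    have h1 : z ≫ p = lift ((toUnit T ≫ u) * (z ≫ a) * (toUnit T ≫ u)⁻¹) (z ≫ a) := by
      simp only [p, comp_lift, MonObj.comp_mul, GrpObj.comp_inv, comp_toUnit_assoc]
    rw [h1, ← mul_inv_eq_iff_eq_mul]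
    constructor
    · rintro ⟨w, hw⟩
      have e1 := congrArg (· ≫ fst G' G') hw
      have e2 := congrArg (· ≫ snd G' G') hw
      simp only [d, comp_lift, Category.comp_id, lift_fst, lift_snd] at e1 e2
      exact e1.symm.trans e2
    · intro h
      refine ⟨z ≫ a, ?_⟩
      rw [h]
      simp [d, comp_lift]
  obtain ⟨Z, t, ht, htfp, hZ⟩ := exists_closed_locus_points X d p
    (fun T => (hp T 1).2 (by simp [MonObj.one_comp]))
    (fun T x y hx hy => (hp T _).2 (by
      rw [MonObj.mul_comp, ← _root_.mul_assoc, (hp T x).1 hx, _root_.mul_assoc, (hp T y).1 hy,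
        _root_.mul_assoc]))
    (fun T x hx => (hp T _).2 (by
      rw [GrpObj.inv_comp, eq_inv_mul_iff_mul_eq, ← _root_.mul_assoc, ← (hp T x).1 hx,
        mul_inv_cancel_right]))
  exact ⟨Z, t, ht, htfp, fun S' g => (hZ S' g).trans
    (forall_congr' fun T => forall_congr' fun _ => forall_congr' fun z => hp T z)⟩

/-- The locus of the base over which a section normalises a smooth connected subgroup. -/
theorem exists_closed_locus_normalize [Mono a] :
    ∃ (Z : Scheme.{u}) (t : Z ⟶ B), IsClosedImmersion t ∧ LocallyOfFinitePresentation t ∧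
      ∀ (S' : Scheme.{u}) (g : S' ⟶ B), (∃ g' : S' ⟶ Z, g' ≫ t = g) ↔
        ∀ (T : Over B) (_ : T ⟶ Over.mk g) (z : T ⟶ X),
          (∃ z' : T ⟶ X, (toUnit T ≫ u) * (z ≫ a) * (toUnit T ≫ u)⁻¹ = z' ≫ a) ∧
          (∃ z' : T ⟶ X, (toUnit T ≫ u)⁻¹ * (z ≫ a) * (toUnit T ≫ u) = z' ≫ a) := by
  haveI : LocallyOfFinitePresentation a.left :=
    DiagGrp.lfp_of_comp_of_lft a.left G'.hom (by rw [Over.w a]; infer_instance) inferInstance
  let d : X ⊗ X ⟶ G' ⊗ G' := a ⊗ₘ a
  haveI : Mono d := ⟨fun v w hvw => by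
    apply CartesianMonoidalCategory.hom_ext
    · rw [← cancel_mono a]
      simpa [d] using congrArg (· ≫ fst G' G') hvw
    · rw [← cancel_mono a]
      simpa [d] using congrArg (· ≫ snd G' G') hvw⟩
  haveI : LocallyOfFinitePresentation d.left := by
    rw [Over.tensorHom_left]
    exact MorphismProperty.pullbackMap ‹LocallyOfFinitePresentation a.left›
      ‹LocallyOfFinitePresentation a.left› (Over.w a).symm (Over.w a).symm
  let p : X ⟶ G' ⊗ G' := lift ((toUnit X ≫ u) * a * (toUnit X ≫ u)⁻¹)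
    ((toUnit X ≫ u)⁻¹ * a * (toUnit X ≫ u))
  have hp : ∀ (T : Over B) (z : T ⟶ X), (∃ w : T ⟶ X ⊗ X, w ≫ d = z ≫ p) ↔
      (∃ z' : T ⟶ X, (toUnit T ≫ u) * (z ≫ a) * (toUnit T ≫ u)⁻¹ = z' ≫ a) ∧
        ∃ z' : T ⟶ X, (toUnit T ≫ u)⁻¹ * (z ≫ a) * (toUnit T ≫ u) = z' ≫ a := fun T z => by
    have h1 : z ≫ p = lift ((toUnit T ≫ u) * (z ≫ a) * (toUnit T ≫ u)⁻¹)
        ((toUnit T ≫ u)⁻¹ * (z ≫ a) * (toUnit T ≫ u)) := by
      simp only [p, comp_lift, MonObj.comp_mul, GrpObj.comp_inv, comp_toUnit_assoc]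
    rw [h1]
    constructor
    · rintro ⟨w, hw⟩
      have e1 := congrArg (· ≫ fst G' G') hw
      have e2 := congrArg (· ≫ snd G' G') hw
      simp only [d, Category.assoc, tensorHom_fst, tensorHom_snd, lift_fst, lift_snd] at e1 e2
      exact ⟨⟨w ≫ fst _ _, by rw [Category.assoc]; exact e1.symm⟩,
        ⟨w ≫ snd _ _, by rw [Category.assoc]; exact e2.symm⟩⟩
    · rintro ⟨⟨v, hv⟩, w, hw⟩
      refine ⟨lift v w, ?_⟩
      rw [hv, hw]
      simp [d]
  obtain ⟨Z, t, ht, htfp, hZ⟩ := exists_closed_locus_points X d p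
    (fun T => (hp T 1).2 ⟨⟨1, by simp [MonObj.one_comp]⟩, ⟨1, by simp [MonObj.one_comp]⟩⟩)
    (fun T x y hx hy => by
      obtain ⟨⟨x₁, hx₁⟩, x₂, hx₂⟩ := (hp T x).1 hx
      obtain ⟨⟨y₁, hy₁⟩, y₂, hy₂⟩ := (hp T y).1 hy
      refine (hp T _).2 ⟨⟨x₁ * y₁, ?_⟩, ⟨x₂ * y₂, ?_⟩⟩
      · rw [MonObj.mul_comp, MonObj.mul_comp, ← hx₁, ← hy₁]; group
      · rw [MonObj.mul_comp, MonObj.mul_comp, ← hx₂, ← hy₂]; group)
    (fun T x hx => by
      obtain ⟨⟨x₁, hx₁⟩, x₂, hx₂⟩ := (hp T x).1 hx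
      refine (hp T _).2 ⟨⟨x₁⁻¹, ?_⟩, ⟨x₂⁻¹, ?_⟩⟩
      · rw [GrpObj.inv_comp, GrpObj.inv_comp, ← hx₁]; group
      · rw [GrpObj.inv_comp, GrpObj.inv_comp, ← hx₂]; group)
  exact ⟨Z, t, ht, htfp, fun S' g => (hZ S' g).trans
    (forall_congr' fun T => forall_congr' fun _ => forall_congr' fun z => hp T z)⟩

end Conjugation

end General

variable {S : Scheme.{u}} (G : Over S) [GrpObj G]

/-- The tautological point over a scheme over the group. -/
noncomputable abbrev tautPt (T : Over G.left) : (Over.map G.hom).obj T ⟶ G := Over.homMk T.hom rfl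

/-- The universal point of the group. -/
noncomputable abbrev univPt (T : Over G.left) : T ⟶ Red.bc G.hom G :=
  DiagGrp.bcPointMulEquiv G.hom G T (tautPt G T)

theorem comp_univPt {T T' : Over G.left} (z : T' ⟶ T) : z ≫ univPt G T = univPt G T' := by
  show z ≫ DiagGrp.bcPoint G.hom G T (tautPt G T) = DiagGrp.bcPoint G.hom G T' (tautPt G T')
  rw [← DiagGrp.bcPoint_comp]
  exact congrArg _ (Over.OverMorphism.ext (Over.w z))

variable {G} {H : Over S} [GrpObj H] (i : H ⟶ G) [IsMonHom i]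

theorem bcPoint_comp_map {T : Over G.left} (h : (Over.map G.hom).obj T ⟶ H) :
    DiagGrp.bcPointMulEquiv G.hom H T h ≫ (Over.pullback G.hom).map i =
      DiagGrp.bcPointMulEquiv G.hom G T (h ≫ i) :=
  (DiagGrp.bcPoint_comp_right G.hom h i).symm

/-- Points of a base change to the group correspond to points of the original scheme. -/
theorem forall_points_iff (X : Over S) (g : X ⟶ G)
    (P : ∀ (T : Over G.left), (T ⟶ Red.bc G.hom H) → Prop)
    (Q : ∀ (X' : Over S), (X' ⟶ G) → (X' ⟶ H) → Prop)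
    (hPQ : ∀ (T : Over G.left) (h : (Over.map G.hom).obj T ⟶ H),
      P T (DiagGrp.bcPointMulEquiv G.hom H T h) ↔ Q _ (tautPt G T) h)
    (hQ : ∀ (X' X'' : Over S) (e : X'' ≅ X') (g₀ : X' ⟶ G) (h : X' ⟶ H),
      Q X'' (e.hom ≫ g₀) (e.hom ≫ h) → Q X' g₀ h) :
    (∀ (T : Over G.left) (_ : T ⟶ Over.mk g.left) (z : T ⟶ Red.bc G.hom H), P T z) ↔
      ∀ (X' : Over S) (x : X' ⟶ X) (h : X' ⟶ H), Q X' (x ≫ g) h := by
  constructor
  · intro hP X' x h
    let T : Over G.left := Over.mk (x ≫ g).left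
    let e : (Over.map G.hom).obj T ≅ X' := Over.isoMk (Iso.refl _) (by
      show 𝟙 _ ≫ X'.hom = (x ≫ g).left ≫ G.hom
      rw [Category.id_comp, Over.w (x ≫ g)])
    refine hQ X' _ e (x ≫ g) h ?_
    have he : e.hom ≫ x ≫ g = tautPt G T := Over.OverMorphism.ext (by
      show 𝟙 _ ≫ (x ≫ g).left = (x ≫ g).left
      exact Category.id_comp _)
    rw [he]
    exact (hPQ T _).1 (hP T (Over.homMk x.left rfl) _)
  · intro hQ' T x z
    obtain ⟨h, rfl⟩ := (DiagGrp.bcPointMulEquiv G.hom H T).surjective z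
    let x' : (Over.map G.hom).obj T ⟶ X := Over.homMk x.left (by
      show x.left ≫ X.hom = T.hom ≫ G.hom
      rw [← Over.w x, ← Over.w g, Category.assoc]
      rfl)
    have hx : x' ≫ g = tautPt G T := Over.OverMorphism.ext (Over.w x)
    exact (hPQ T h).2 (hx ▸ hQ' _ x' h)

/-- A closed subscheme whose points form a subgroup is a subgroup. -/
theorem exists_subgroup {Z : Scheme.{u}} (t : Z ⟶ G.left) [IsClosedImmersion t]
    [LocallyOfFinitePresentation t] (Q : ∀ X : Over S, (X ⟶ G) → Prop)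
    (hQ : ∀ (X : Over S) (g : X ⟶ G), (∃ g' : X.left ⟶ Z, g' ≫ t = g.left) ↔ Q X g)
    (hone : ∀ X, Q X 1) (hmul : ∀ X a b, Q X a → Q X b → Q X (a * b))
    (hinv : ∀ X a, Q X a → Q X a⁻¹) :
    ∃ (N : Over S) (_ : GrpObj N) (j : N ⟶ G), IsMonHom j ∧ Mono j ∧ IsClosedImmersion j.left ∧
      LocallyOfFinitePresentation j.left ∧
      ∀ (X : Over S) (g : X ⟶ G), (∃ z : X ⟶ N, z ≫ j = g) ↔ Q X g := by
  let N : Over S := Over.mk (t ≫ G.hom)
  let j : N ⟶ G := Over.homMk t rfl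
  haveI : Mono j := (Over.forget S).mono_of_mono_map (show Mono t from inferInstance)
  have hN : ∀ (X : Over S) (g : X ⟶ G), (∃ z : X ⟶ N, z ≫ j = g) ↔ Q X g := fun X g => by
    refine Iff.trans ⟨?_, ?_⟩ (hQ X g)
    · rintro ⟨z, rfl⟩
      exact ⟨z.left, rfl⟩
    · rintro ⟨g', hg'⟩
      refine ⟨Over.homMk g' ?_, Over.OverMorphism.ext hg'⟩
      show g' ≫ t ≫ G.hom = X.hom
      rw [← Category.assoc, hg', Over.w g]
  obtain ⟨inst, hj⟩ := EssFree.exists_grpObj_of_mono j (fun T => (hN T 1).2 (hone T))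
    (fun T a b => (hN T _).2 (hmul T _ _ ((hN T _).1 ⟨a, rfl⟩) ((hN T _).1 ⟨b, rfl⟩)))
    (fun T a => (hN T _).2 (hinv T _ ((hN T _).1 ⟨a, rfl⟩)))
  exact ⟨N, inst, j, hj, inferInstance, ‹IsClosedImmersion t›, ‹LocallyOfFinitePresentation t›, hN⟩

variable [Smooth H.hom] [GeometricallyIrreducible H.hom] [LocallyOfFiniteType G.hom]

theorem toUnit_univPt (T : Over G.left) :
    toUnit T ≫ univPt G (𝟙_ (Over G.left)) = univPt G T :=
  comp_univPt G (toUnit T)

/-- **Centralisers of smooth connected subgroups are closed.** -/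
theorem exists_centralizer :
    ∃ (Z : Over S) (_ : GrpObj Z) (j : Z ⟶ G), Red.IsCentralizerOf i j ∧ IsClosedImmersion j.left ∧
      LocallyOfFinitePresentation j.left := by
  haveI : Smooth (Red.bc G.hom H).hom := inferInstanceAs (Smooth (pullback.snd H.hom G.hom))
  haveI : GeometricallyIrreducible (Red.bc G.hom H).hom :=
    inferInstanceAs (GeometricallyIrreducible (pullback.snd H.hom G.hom))
  haveI : LocallyOfFiniteType (Red.bc G.hom G).hom :=
    inferInstanceAs (LocallyOfFiniteType (pullback.snd G.hom G.hom))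
  obtain ⟨Z, t, ht, htfp, hZ⟩ := exists_closed_locus_commute (Red.bc G.hom H)
    ((Over.pullback G.hom).map i) (univPt G (𝟙_ (Over G.left)))
  simp only [toUnit_univPt] at hZ
  obtain ⟨N, inst, j, hj, hjm, hjc, hjfp, hN⟩ := exists_subgroup t
    (fun X g => ∀ (X' : Over S) (x : X' ⟶ X) (h : X' ⟶ H), (x ≫ g) * (h ≫ i) = (h ≫ i) * (x ≫ g))
    (fun X g => (hZ X.left g.left).trans (forall_points_iff X g
      (fun T z => univPt G T * (z ≫ (Over.pullback G.hom).map i) =
        (z ≫ (Over.pullback G.hom).map i) * univPt G T)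
      (fun X' g₀ h => g₀ * (h ≫ i) = (h ≫ i) * g₀)
      (fun T h => by
        rw [bcPoint_comp_map, ← map_mul, ← map_mul, EmbeddingLike.apply_eq_iff_eq])
      (fun X' X'' e g₀ h hQ => by
        rw [← cancel_epi e.hom, MonObj.comp_mul, MonObj.comp_mul]
        simpa using hQ)))
    (fun X X' x h => by simp [MonObj.comp_one])
    (fun X a b ha hb X' x h => by
      rw [MonObj.comp_mul, _root_.mul_assoc, hb X' x h, ← _root_.mul_assoc, ha X' x h, _root_.mul_assoc])
    (fun X a ha X' x h => by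
      rw [GrpObj.comp_inv, inv_mul_eq_iff_eq_mul, ← _root_.mul_assoc, ha X' x h, mul_inv_cancel_right])
  exact ⟨N, inst, j, ⟨hj, hjm, hN⟩, hjc, hjfp⟩

set_option maxHeartbeats 800000 in
set_option synthInstance.maxHeartbeats 200000 in
/-- **Normalisers of smooth connected subgroups are closed.** -/
theorem exists_normalizer [Mono i] :
    ∃ (N : Over S) (_ : GrpObj N) (j : N ⟶ G), Red.IsNormalizerOf i j ∧ IsClosedImmersion j.left ∧
      LocallyOfFinitePresentation j.left := by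
  haveI : Smooth (Red.bc G.hom H).hom := inferInstanceAs (Smooth (pullback.snd H.hom G.hom))
  haveI : GeometricallyIrreducible (Red.bc G.hom H).hom :=
    inferInstanceAs (GeometricallyIrreducible (pullback.snd H.hom G.hom))
  haveI : LocallyOfFiniteType (Red.bc G.hom G).hom :=
    inferInstanceAs (LocallyOfFiniteType (pullback.snd G.hom G.hom))
  haveI : Mono ((Over.pullback G.hom).map i) := (Over.pullback G.hom).map_mono i
  obtain ⟨Z, t, ht, htfp, hZ⟩ := exists_closed_locus_normalize (Red.bc G.hom H)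
    ((Over.pullback G.hom).map i) (univPt G (𝟙_ (Over G.left)))
  simp only [toUnit_univPt] at hZ
  obtain ⟨N, inst, j, hj, hjm, hjc, hjfp, hN⟩ := exists_subgroup t
    (fun X g => ∀ (X' : Over S) (x : X' ⟶ X) (h : X' ⟶ H),
      (∃ h' : X' ⟶ H, (x ≫ g) * (h ≫ i) * (x ≫ g)⁻¹ = h' ≫ i) ∧
      (∃ h' : X' ⟶ H, (x ≫ g)⁻¹ * (h ≫ i) * (x ≫ g) = h' ≫ i))
    (fun X g => (hZ X.left g.left).trans (forall_points_iff X g
      (fun T z =>
        (∃ z' : T ⟶ Red.bc G.hom H, univPt G T * (z ≫ (Over.pullback G.hom).map i) * (univPt G T)⁻¹ =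
          z' ≫ (Over.pullback G.hom).map i) ∧
        ∃ z' : T ⟶ Red.bc G.hom H, (univPt G T)⁻¹ * (z ≫ (Over.pullback G.hom).map i) * univPt G T =
          z' ≫ (Over.pullback G.hom).map i)
      (fun X' g₀ h => (∃ h' : X' ⟶ H, g₀ * (h ≫ i) * g₀⁻¹ = h' ≫ i) ∧
        ∃ h' : X' ⟶ H, g₀⁻¹ * (h ≫ i) * g₀ = h' ≫ i)
      (fun T h => by
        refine and_congr ((DiagGrp.bcPointMulEquiv G.hom H T).surjective.exists.trans
          (exists_congr fun h' => ?_)) ((DiagGrp.bcPointMulEquiv G.hom H T).surjective.exists.trans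
          (exists_congr fun h' => ?_))
        · rw [bcPoint_comp_map, bcPoint_comp_map, ← map_mul, ← map_inv, ← map_mul,
            EmbeddingLike.apply_eq_iff_eq]
        · rw [bcPoint_comp_map, bcPoint_comp_map, ← map_inv, ← map_mul, ← map_mul,
            EmbeddingLike.apply_eq_iff_eq])
      (fun X' X'' e g₀ h hQ => by
        obtain ⟨⟨a, ha⟩, b, hb⟩ := hQ
        refine ⟨⟨e.inv ≫ a, ?_⟩, ⟨e.inv ≫ b, ?_⟩⟩
        · rw [← cancel_epi e.hom]
          simpa [MonObj.comp_mul, GrpObj.comp_inv] using ha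
        · rw [← cancel_epi e.hom]
          simpa [MonObj.comp_mul, GrpObj.comp_inv] using hb)))
    (fun X X' x h => ⟨⟨h, by simp [MonObj.comp_one]⟩, ⟨h, by simp [MonObj.comp_one]⟩⟩)
    (fun X a b ha hb X' x h => by
      constructor
      · obtain ⟨h₁, e₁⟩ := (hb X' x h).1
        obtain ⟨h₂, e₂⟩ := (ha X' x h₁).1
        refine ⟨h₂, ?_⟩
        rw [← e₂, ← e₁, MonObj.comp_mul]
        group
      · obtain ⟨h₁, e₁⟩ := (ha X' x h).2
        obtain ⟨h₂, e₂⟩ := (hb X' x h₁).2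
        refine ⟨h₂, ?_⟩
        rw [← e₂, ← e₁, MonObj.comp_mul]
        group)
    (fun X a ha X' x h => by
      rw [GrpObj.comp_inv, _root_.inv_inv]
      exact ⟨(ha X' x h).2, (ha X' x h).1⟩)
  exact ⟨N, inst, j, ⟨hj, hjm, hN⟩, hjc, hjfp⟩

end GrothLib.SecLocus
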