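import Mathlib
import Groth.Agent.Lib.SecLocus.NormCent

/-!
# Transporters of smooth connected subgroups are closed
-/

universe u

open CategoryTheory CategoryTheory.Limits MonoidalCategory CartesianMonoidalCategory MonObj GrpObj
open AlgebraicGeometry

set_option backward.isDefEq.respectTransparency false

namespace GrothLib.SecLocus

variable {B : Scheme.{u}} (X : Over B) [GrpObj X] [Smooth X.hom] [GeometricallyIrreducible X.hom]

/-- The locus of the base over which a section conjugates a smooth connected group into a subgroup. -/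
theorem exists_closed_locus_conj {G' K : Over B} [GrpObj G'] [GrpObj K] (a : X ⟶ G') [IsMonHom a]
    (b : K ⟶ G') [IsMonHom b] [Mono b] [LocallyOfFinitePresentation b.left] (u : 𝟙_ (Over B) ⟶ G') :
    ∃ (Z : Scheme.{u}) (t : Z ⟶ B), IsClosedImmersion t ∧ LocallyOfFinitePresentation t ∧
      ∀ (S' : Scheme.{u}) (g : S' ⟶ B), (∃ g' : S' ⟶ Z, g' ≫ t = g) ↔
        ∀ (T : Over B) (_ : T ⟶ Over.mk g) (z : T ⟶ X),
          ∃ k : T ⟶ K, (toUnit T ≫ u) * (z ≫ a) * (toUnit T ≫ u)⁻¹ = k ≫ b := by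
  let p : X ⟶ G' := (toUnit X ≫ u) * a * (toUnit X ≫ u)⁻¹
  have hp : ∀ (T : Over B) (z : T ⟶ X),
      z ≫ p = (toUnit T ≫ u) * (z ≫ a) * (toUnit T ≫ u)⁻¹ := fun T z => by
    simp only [p, MonObj.comp_mul, GrpObj.comp_inv, comp_toUnit_assoc]
  obtain ⟨Z, t, ht, htfp, hZ⟩ := exists_closed_locus_points X b p
    (fun T => ⟨1, by simp [hp, MonObj.one_comp]⟩)
    (fun T x y ⟨k, hk⟩ ⟨l, hl⟩ => ⟨k * l, by
      rw [hp] at hk hl
      rw [hp, MonObj.mul_comp, hk, hl, MonObj.mul_comp]
      group⟩)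
    (fun T x ⟨k, hk⟩ => ⟨k⁻¹, by
      rw [hp] at hk
      rw [hp, GrpObj.inv_comp, hk, GrpObj.inv_comp]
      group⟩)
  refine ⟨Z, t, ht, htfp, fun S' g => (hZ S' g).trans
    (forall_congr' fun T => forall_congr' fun _ => forall_congr' fun z => exists_congr fun k => ?_)⟩
  rw [hp]
  exact eq_comm

variable {S : Scheme.{u}} {G H K : Over S} [GrpObj G] [GrpObj H] [GrpObj K] [Smooth H.hom]
  [GeometricallyIrreducible H.hom] (i : H ⟶ G) [IsMonHom i] (j : K ⟶ G) [IsMonHom j] [Mono j]
  [LocallyOfFinitePresentation j.left]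

set_option maxHeartbeats 800000 in
set_option synthInstance.maxHeartbeats 200000 in
/-- **Transporters of smooth connected subgroups into finitely presented subgroups are closed.** -/
theorem exists_transporter :
    ∃ (T : Over S) (t : T ⟶ G), IsClosedImmersion t.left ∧ LocallyOfFinitePresentation t.left ∧
      ∀ (X : Over S) (g : X ⟶ G), (∃ x : X ⟶ T, x ≫ t = g) ↔
        ∀ (X' : Over S) (x : X' ⟶ X) (h : X' ⟶ H),
          ∃ κ : X' ⟶ K, (x ≫ g) * (h ≫ i) * (x ≫ g)⁻¹ = κ ≫ j := by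
  haveI : Smooth (Red.bc G.hom H).hom := inferInstanceAs (Smooth (pullback.snd H.hom G.hom))
  haveI : GeometricallyIrreducible (Red.bc G.hom H).hom :=
    inferInstanceAs (GeometricallyIrreducible (pullback.snd H.hom G.hom))
  haveI : Mono ((Over.pullback G.hom).map j) := (Over.pullback G.hom).map_mono j
  haveI : LocallyOfFinitePresentation ((Over.pullback G.hom).map j).left :=
    MorphismProperty.baseChange_map (P := @LocallyOfFinitePresentation) G.hom j inferInstance
  obtain ⟨Z, t, ht, htfp, hZ⟩ := exists_closed_locus_conj (Red.bc G.hom H)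
    ((Over.pullback G.hom).map i) ((Over.pullback G.hom).map j) (univPt G (𝟙_ (Over G.left)))
  simp only [comp_univPt] at hZ
  refine ⟨Over.mk (t ≫ G.hom), Over.homMk t rfl, ht, htfp, fun X g => ?_⟩
  have hiff : (∃ x : X ⟶ Over.mk (t ≫ G.hom), x ≫ Over.homMk t rfl = g) ↔
      ∃ g' : X.left ⟶ Z, g' ≫ t = g.left := by
    constructor
    · rintro ⟨x, rfl⟩
      exact ⟨x.left, rfl⟩
    · rintro ⟨g', hg'⟩
      refine ⟨Over.homMk g' ?_, Over.OverMorphism.ext hg'⟩
      show g' ≫ t ≫ G.hom = X.hom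
      rw [← Category.assoc, hg', Over.w g]
  refine (hiff.trans (hZ X.left g.left)).trans (forall_points_iff X g
    (fun T z => ∃ k : T ⟶ Red.bc G.hom K,
      univPt G T * (z ≫ (Over.pullback G.hom).map i) * (univPt G T)⁻¹ = k ≫ (Over.pullback G.hom).map j)
    (fun X' g₀ h => ∃ κ : X' ⟶ K, g₀ * (h ≫ i) * g₀⁻¹ = κ ≫ j)
    (fun T h => by
      refine (DiagGrp.bcPointMulEquiv G.hom K T).surjective.exists.trans (exists_congr fun k => ?_)
      rw [bcPoint_comp_map, bcPoint_comp_map, ← map_mul, ← map_inv, ← map_mul,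
        EmbeddingLike.apply_eq_iff_eq])
    (fun X' X'' e g₀ h hQ => by
      obtain ⟨k, hk⟩ := hQ
      refine ⟨e.inv ≫ k, ?_⟩
      rw [← cancel_epi e.hom]
      simpa [MonObj.comp_mul, GrpObj.comp_inv] using hk))

end GrothLib.SecLocus
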